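import Groth.Agent.DerComp.K780.Tele

/-!
# Single-section derived completion: the triangle `T(K,s) → K → K_s^`
-/

set_option autoImplicit false
set_option linter.unusedSectionVars false

universe v u w

open CategoryTheory CategoryTheory.Limits Pretriangulated

namespace K780.Tele

open K780.ShiftAlg

variable {R : Type w} [CommRing R] {T : Type u} [Category.{v} T] [Preadditive T] [HasZeroObject T] [HasShift T ℤ]
  [∀ n : ℤ, (shiftFunctor T n).Additive] [Pretriangulated T] [Linear R T]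
  [∀ n : ℤ, Functor.Linear R (shiftFunctor T n)]

section Shift

variable {s : R}

lemma Invt.shift {Y : T} (h : Invt s Y) (n : ℤ) : Invt s (Y⟦n⟧) := by
  have : s • 𝟙 (Y⟦n⟧) = (shiftFunctor T n).map (s • 𝟙 Y) := by simp
  unfold Invt
  rw [this]
  infer_instance

lemma Invt.of_shift {Y : T} (n : ℤ) (h : Invt s (Y⟦n⟧)) : Invt s Y := by
  have h1 := Invt.shift h (-n)
  exact h1.of_iso ((shiftEquiv T n).unitIso.app Y).symm

/-- Shifting is linear and bijective on morphisms. -/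
noncomputable def shiftHom (X Y : T) (n : ℤ) : (X ⟶ Y) ≃ₗ[R] (X⟦n⟧ ⟶ Y⟦n⟧) where
  toFun φ := φ⟦n⟧'
  invFun φ := (shiftFunctor T n).preimage φ
  map_add' _ _ := (shiftFunctor T n).map_add
  map_smul' r φ := (shiftFunctor T n).map_smul r φ
  left_inv φ := (shiftFunctor T n).preimage_map φ
  right_inv φ := (shiftFunctor T n).map_preimage φ

lemma IsCompl.shift {K : T} (h : IsCompl s K) (n : ℤ) : IsCompl s (K⟦n⟧) := by
  intro X
  -- `X ≅ X⟦-n⟧⟦n⟧`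
  let e : X⟦-n⟧⟦n⟧ ≅ X := (shiftEquiv T n).counitIso.app X
  have h1 := (h (X⟦-n⟧)).of_linearEquiv (shiftHom (R := R) (X⟦-n⟧) K n)
  exact h1.of_linearEquiv { toFun := fun φ => e.inv ≫ φ, invFun := fun φ => e.hom ≫ φ, map_add' := by simp,
                            map_smul' := by simp, left_inv := fun φ => by simp, right_inv := fun φ => by simp }

lemma IsCompl.of_shift {K : T} (n : ℤ) (h : IsCompl s (K⟦n⟧)) : IsCompl s K := by
  have h1 := IsCompl.shift h (-n)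
  exact h1.of_iso ((shiftEquiv T n).unitIso.app K).symm

end Shift

section Exact

variable {A B C : T} {u : A ⟶ B} {v : B ⟶ C} {w : C ⟶ A⟦(1 : ℤ)⟧}

lemma ex₂ (h : Triangle.mk u v w ∈ distTriang T) {X : T} (φ : X ⟶ B) (hφ : φ ≫ v = 0) :
    ∃ ψ : X ⟶ A, φ = ψ ≫ u := Triangle.coyoneda_exact₂ _ h φ hφ

lemma ex₃ (h : Triangle.mk u v w ∈ distTriang T) {X : T} (φ : X ⟶ C) (hφ : φ ≫ w = 0) :
    ∃ ψ : X ⟶ B, φ = ψ ≫ v := Triangle.coyoneda_exact₃ _ h φ hφ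

lemma ex₁ (h : Triangle.mk u v w ∈ distTriang T) {X : T} (φ : X ⟶ A⟦(1 : ℤ)⟧) (hφ : φ ≫ u⟦(1 : ℤ)⟧' = 0) :
    ∃ ψ : X ⟶ C, φ = ψ ≫ w := Triangle.coyoneda_exact₁ _ h φ hφ

lemma ex₂' (h : Triangle.mk u v w ∈ distTriang T) {X : T} (φ : X ⟶ B⟦(1 : ℤ)⟧) (hφ : φ ≫ v⟦(1 : ℤ)⟧' = 0) :
    ∃ ψ : X ⟶ A⟦(1 : ℤ)⟧, φ = ψ ≫ u⟦(1 : ℤ)⟧' := by
  have h' : Triangle.mk w (-(u⟦(1 : ℤ)⟧')) (-(v⟦(1 : ℤ)⟧')) ∈ distTriang T :=
    rot_of_distTriang _ (rot_of_distTriang _ h)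
  obtain ⟨ψ, hψ⟩ := ex₃ h' φ (by rw [Preadditive.comp_neg, hφ, neg_zero])
  exact ⟨-ψ, by rw [hψ, Preadditive.comp_neg, Preadditive.neg_comp]⟩

lemma z₁₂ (h : Triangle.mk u v w ∈ distTriang T) : u ≫ v = 0 := comp_distTriang_mor_zero₁₂ _ h
lemma z₂₃ (h : Triangle.mk u v w ∈ distTriang T) : v ≫ w = 0 := comp_distTriang_mor_zero₂₃ _ h
lemma z₃₁ (h : Triangle.mk u v w ∈ distTriang T) : w ≫ u⟦(1 : ℤ)⟧' = 0 := comp_distTriang_mor_zero₃₁ _ h

end Exact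

section Five

/-- Five lemma for completeness of Hom groups in a triangle, at a single test object. -/
lemma cmp_of_triangle {t : Triangle T} (ht : t ∈ distTriang T) (X : T) (g : R)
    (h1 : Cmp (X ⟶ t.obj₁) g) (h2 : Cmp (X ⟶ t.obj₂) g) (h1' : Cmp (X ⟶ t.obj₁⟦(1 : ℤ)⟧) g)
    (h2' : Cmp (X ⟶ t.obj₂⟦(1 : ℤ)⟧) g) : Cmp (X ⟶ t.obj₃) g := by
  apply cmp_of
  · intro x hx
    have hr : (fun k => x k ≫ t.mor₃) = 0 := by
      apply h1'.eq_zero
      intro k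
      rw [← Linear.smul_comp, ← hx k]
    choose y hy using fun k => Triangle.coyoneda_exact₃ t ht (x k) (congrFun hr k)
    have hz : ∀ k, (y k - g • y (k + 1)) ≫ t.mor₂ = 0 := fun k => by
      rw [Preadditive.sub_comp, Linear.smul_comp, ← hy, ← hy, ← hx k, sub_self]
    choose z hz' using fun k => Triangle.coyoneda_exact₂ t ht _ (hz k)
    obtain ⟨θ, hθ⟩ := h1.exists_sol z
    have hy' : (fun k => y k - θ k ≫ t.mor₁) = 0 := by
      apply h2.eq_zero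
      intro k
      have e1 := hz' k
      have e2 : z k = θ k - g • θ (k + 1) := by rw [hθ k]; abel
      rw [e2, Preadditive.sub_comp, Linear.smul_comp] at e1
      have e4 : y k = g • y (k + 1) + (θ k ≫ t.mor₁ - g • θ (k + 1) ≫ t.mor₁) := by rw [← e1]; abel
      rw [e4, smul_sub]
      abel
    funext k
    have e3 : y k = θ k ≫ t.mor₁ := by
      have := congrFun hy' k
      exact sub_eq_zero.1 this
    rw [hy k, e3, Category.assoc, comp_distTriang_mor_zero₁₂ t ht, comp_zero]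
    rfl
  · intro w
    obtain ⟨θ, hθ⟩ := h1'.exists_sol (fun k => w k ≫ t.mor₃)
    have h3 : (fun k => θ k ≫ t.mor₁⟦(1 : ℤ)⟧') = 0 := by
      apply h2'.eq_zero
      intro k
      rw [hθ k, Preadditive.add_comp, Category.assoc, comp_distTriang_mor_zero₃₁ t ht, comp_zero, zero_add,
        Linear.smul_comp]
    choose x hx using fun k => Triangle.coyoneda_exact₁ t ht (θ k) (congrFun h3 k)
    have h4 : ∀ k, (w k - (x k - g • x (k + 1))) ≫ t.mor₃ = 0 := fun k => by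
      rw [Preadditive.sub_comp, Preadditive.sub_comp, Linear.smul_comp, ← hx, ← hx, hθ k]
      abel
    choose y hy using fun k => Triangle.coyoneda_exact₃ t ht _ (h4 k)
    obtain ⟨y', hy'⟩ := h2.exists_sol y
    refine ⟨fun k => x k + y' k ≫ t.mor₂, fun k => ?_⟩
    have e1 := hy k
    rw [show y k = y' k - g • y' (k + 1) by rw [hy' k]; abel, Preadditive.sub_comp, Linear.smul_comp,
      sub_eq_iff_eq_add] at e1
    rw [e1, smul_add]
    abel_nf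

lemma IsCompl.of_triangle {t : Triangle T} (ht : t ∈ distTriang T) {g : R} (h1 : IsCompl g t.obj₁)
    (h2 : IsCompl g t.obj₂) : IsCompl g t.obj₃ := fun X =>
  cmp_of_triangle ht X g (h1 X) (h2 X) (h1.shift 1 X) (h2.shift 1 X)

lemma IsCompl.of_triangle₁ {t : Triangle T} (ht : t ∈ distTriang T) {g : R} (h2 : IsCompl g t.obj₂)
    (h3 : IsCompl g t.obj₃) : IsCompl g t.obj₁ :=
  IsCompl.of_shift 1 (IsCompl.of_triangle (rot_of_distTriang t ht) h2 h3)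

end Five

section Main

variable (s : R) (K : T) [HasProduct fun _ : ℕ => K]

variable {s K}
variable {L : T} {a : L ⟶ ∏ᶜ fun _ : ℕ => K} {c : (∏ᶜ fun _ : ℕ => K) ⟶ L⟦(1 : ℤ)⟧}

/-- `s` is invertible on `T(K,s)`. -/
theorem invt_tele (ht : Triangle.mk a (dm s K) c ∈ distTriang T) : Invt s L := by
  apply Invt.of_shift 1
  apply Invt.of_bijective
  intro X
  have hdm : (dm s K)⟦(1 : ℤ)⟧' = 𝟙 _ - s • (S K)⟦(1 : ℤ)⟧' := by
    rw [dm_eq, Functor.map_sub, Functor.map_smul, CategoryTheory.Functor.map_id]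
  have key : ∀ φ : X ⟶ L⟦(1 : ℤ)⟧, φ ≫ a⟦(1 : ℤ)⟧' = s • (φ ≫ a⟦(1 : ℤ)⟧' ≫ (S K)⟦(1 : ℤ)⟧') := fun φ => by
    have h1 : φ ≫ a⟦(1 : ℤ)⟧' ≫ (dm s K)⟦(1 : ℤ)⟧' = 0 := by
      rw [← Functor.map_comp, z₁₂ ht, Functor.map_zero, comp_zero]
    rw [hdm, Preadditive.comp_sub, Category.comp_id, Linear.comp_smul, Preadditive.comp_sub, Linear.comp_smul,
      sub_eq_zero] at h1
    exact h1
  have hdS : ∀ ψ : X ⟶ ∏ᶜ fun _ : ℕ => K, ψ = ψ ≫ dm s K + s • (ψ ≫ S K) := fun ψ => by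
    rw [dm_eq, Preadditive.comp_sub, Category.comp_id, Linear.comp_smul]
    abel
  have hdc : dm s K ≫ c = 0 := z₂₃ ht
  have inj : ∀ χ : X ⟶ L⟦(1 : ℤ)⟧, s • χ = 0 → χ = 0 := by
    intro χ h0
    have h1 : χ ≫ a⟦(1 : ℤ)⟧' = 0 := by
      rw [key χ, ← Linear.smul_comp, h0, zero_comp]
    obtain ⟨ψ, hψ⟩ := ex₁ ht χ h1
    have h2 : (s • ψ) ≫ c = 0 := by rw [Linear.smul_comp, ← hψ, h0]
    obtain ⟨θ, hθ⟩ := ex₃ ht (s • ψ) h2
    have h3 : ψ = (ψ + θ ≫ S K) ≫ dm s K := by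
      conv_lhs => rw [hdS ψ]
      rw [← Linear.smul_comp, hθ, Preadditive.add_comp, Category.assoc, Category.assoc, dm_S]
    rw [hψ, h3, Category.assoc, hdc, comp_zero]
  constructor
  · intro φ φ' hφ
    rw [← sub_eq_zero]
    apply inj
    rw [smul_sub, sub_eq_zero]
    exact hφ
  · intro φ
    have h1 : (φ ≫ a⟦(1 : ℤ)⟧' ≫ (S K)⟦(1 : ℤ)⟧') ≫ (dm s K)⟦(1 : ℤ)⟧' = 0 := by
      rw [Category.assoc, Category.assoc, ← Functor.map_comp, ← dm_S, Functor.map_comp, ← Functor.map_comp_assoc,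
        z₁₂ ht, Functor.map_zero, zero_comp, comp_zero]
    obtain ⟨φ', hφ'⟩ := ex₂' ht _ h1
    have h2 : (φ - s • φ') ≫ a⟦(1 : ℤ)⟧' = 0 := by
      rw [Preadditive.sub_comp, Linear.smul_comp, ← hφ', ← key, sub_self]
    obtain ⟨ψ, hψ⟩ := ex₁ ht _ h2
    refine ⟨φ' + (ψ ≫ S K) ≫ c, ?_⟩
    have h3 : ψ ≫ c = s • ((ψ ≫ S K) ≫ c) := by
      conv_lhs => rw [hdS ψ]
      rw [Preadditive.add_comp, Category.assoc, hdc, comp_zero, zero_add, Linear.smul_comp]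
    change s • (φ' + (ψ ≫ S K) ≫ c) = φ
    rw [smul_add, ← h3, ← hψ]
    abel

/-- For `Y` with `s` invertible, every sequence of morphisms to `K` is of the form `θ_k - s θ_{k+1}`. -/
lemma exists_dm {Y : T} (hY : Invt s Y) (ψ : Y ⟶ ∏ᶜ fun _ : ℕ => K) : ∃ θ : Y ⟶ ∏ᶜ fun _ : ℕ => K, ψ = θ ≫ dm s K := by
  choose g hg using fun φ : Y ⟶ K => hY.exists_smul φ
  let θ : ℕ → (Y ⟶ K) := fun n => Nat.rec 0 (fun k x => g (x - ψ ≫ Pi.π _ k)) n
  have hθ : ∀ k, s • θ (k + 1) = θ k - ψ ≫ Pi.π _ k := fun k => (hg _).symm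
  refine ⟨Pi.lift θ, Pi.hom_ext _ _ fun k => ?_⟩
  rw [Category.assoc, dm_π, Preadditive.comp_sub, Linear.comp_smul, Pi.lift_π, Pi.lift_π, hθ]
  abel

/-- `Hom(Y, T(K,s)) → Hom(Y, K)` is injective for `Y` with `s` invertible. -/
theorem tele_injective (ht : Triangle.mk a (dm s K) c ∈ distTriang T) {Y : T} (hY : Invt s Y) (φ : Y ⟶ L)
    (hφ : φ ≫ a ≫ Pi.π _ 0 = 0) : φ = 0 := by
  have hx : ∀ k, (φ ≫ a) ≫ Pi.π _ k = s • (φ ≫ a) ≫ Pi.π _ (k + 1) := fun k => by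
    have h1 : (φ ≫ a) ≫ dm s K ≫ Pi.π _ k = 0 := by
      rw [Category.assoc, ← Category.assoc a, z₁₂ ht, zero_comp, comp_zero]
    rw [dm_π, Preadditive.comp_sub, Linear.comp_smul, sub_eq_zero] at h1
    exact h1
  have hx0 : ∀ k, (φ ≫ a) ≫ Pi.π _ k = 0 := by
    intro k
    induction k with
    | zero => rw [Category.assoc]; exact hφ
    | succ k ih =>
      apply hY.eq_zero_of_smul
      rw [← hx k, ih]
  have h2 : φ ≫ a = 0 := Pi.hom_ext _ _ fun k => by rw [hx0, zero_comp]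
  have h3 : φ⟦(1 : ℤ)⟧' ≫ a⟦(1 : ℤ)⟧' = 0 := by rw [← Functor.map_comp, h2, Functor.map_zero]
  obtain ⟨ψ, hψ⟩ := ex₁ ht _ h3
  obtain ⟨θ, hθ⟩ := exists_dm (hY.shift 1) ψ
  apply (shiftFunctor T (1 : ℤ)).map_injective
  rw [hψ, hθ, Category.assoc, z₂₃ ht, comp_zero, Functor.map_zero]

/-- `Hom(Y, T(K,s)) → Hom(Y, K)` is surjective for `Y` with `s` invertible. -/
theorem tele_surjective (ht : Triangle.mk a (dm s K) c ∈ distTriang T) {Y : T} (hY : Invt s Y) (y : Y ⟶ K) :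
    ∃ φ : Y ⟶ L, φ ≫ a ≫ Pi.π _ 0 = y := by
  choose g hg using fun φ : Y ⟶ K => hY.exists_smul φ
  let x : Y ⟶ ∏ᶜ fun _ : ℕ => K := Pi.lift fun n => g^[n] y
  have h1 : x ≫ dm s K = 0 := Pi.hom_ext _ _ fun k => by
    rw [Category.assoc, dm_π, Preadditive.comp_sub, Linear.comp_smul, Pi.lift_π, Pi.lift_π,
      Function.iterate_succ_apply', ← hg, sub_self, zero_comp]
  obtain ⟨φ, hφ⟩ := ex₂ ht x h1
  refine ⟨φ, ?_⟩
  rw [← Category.assoc, ← hφ, Pi.lift_π]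
  rfl

end Main

section Step

variable [∀ K : T, HasProduct fun _ : ℕ => K]

/-- Existence of `T(K,s)`. -/
theorem exists_tele (s : R) (K : T) : ∃ (L : T) (a : L ⟶ ∏ᶜ fun _ : ℕ => K) (c : (∏ᶜ fun _ : ℕ => K) ⟶ L⟦(1 : ℤ)⟧),
    Triangle.mk a (dm s K) c ∈ distTriang T := by
  obtain ⟨D, i, b, hD⟩ := distinguished_cocone_triangle (dm s K)
  exact ⟨_, _, _, inv_rot_of_distTriang _ hD⟩

/-- If `Hom(Y, C) = 0` for every `s`-invertible `Y` then `C` is `s`-complete. -/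
theorem isCompl_of_hom_eq_zero {s : R} {C : T} (h : ∀ Y : T, Invt s Y → ∀ φ : Y ⟶ C, φ = 0) : IsCompl s C := by
  obtain ⟨L, a, c, hL⟩ := exists_tele s C
  have h1 : Invt s L := invt_tele hL
  have h2 : 𝟙 L = 0 := tele_injective hL h1 _ (h L h1 _)
  have h4 : IsIso (dm s C) := (Triangle.isZero₁_iff_isIso₂ _ hL).1 ((IsZero.iff_id_eq_zero _).2 h2)
  exact isCompl_of_isIso_dm s

/-- **The single-section derived completion.** -/
theorem exists_step (s : R) (K : T) : ∃ (L C : T) (p : L ⟶ K) (q : K ⟶ C) (r : C ⟶ L⟦(1 : ℤ)⟧),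
    (Triangle.mk p q r ∈ distTriang T) ∧ Invt s L ∧ IsCompl s C ∧ ∀ g : R, IsCompl g K → IsCompl g C := by
  obtain ⟨L, a, c, ht⟩ := exists_tele s K
  have hLinv : Invt s L := invt_tele ht
  obtain ⟨C, q, r, hC⟩ := distinguished_cocone_triangle (a ≫ Pi.π _ 0)
  refine ⟨L, C, a ≫ Pi.π _ 0, q, r, hC, hLinv, ?_, ?_⟩
  · apply isCompl_of_hom_eq_zero
    intro Y hY φ
    have h1 : φ ≫ r = 0 := by
      -- `φ ≫ r : Y ⟶ L⟦1⟧` is killed by `p⟦1⟧`
      have h2 : (φ ≫ r) ≫ (a ≫ Pi.π _ 0)⟦(1 : ℤ)⟧' = 0 := by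
        rw [Category.assoc, z₃₁ hC, comp_zero]
      let e : Y⟦(-1 : ℤ)⟧⟦(1 : ℤ)⟧ ≅ Y := (shiftEquiv T (1 : ℤ)).counitIso.app Y
      obtain ⟨χ, hχ⟩ := (shiftFunctor T (1 : ℤ)).map_surjective (e.hom ≫ φ ≫ r)
      have h3 : χ ≫ (a ≫ Pi.π _ 0) = 0 := by
        apply (shiftFunctor T (1 : ℤ)).map_injective
        rw [Functor.map_comp, hχ, Category.assoc, h2, comp_zero, Functor.map_zero]
      have h4 : χ = 0 := tele_injective ht (hY.shift (-1)) χ h3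
      rw [h4, Functor.map_zero] at hχ
      rw [← cancel_epi e.hom, ← hχ, comp_zero]
    obtain ⟨ψ, hψ⟩ := ex₃ hC φ h1
    obtain ⟨ψ', hψ'⟩ := tele_surjective ht hY ψ
    rw [hψ, ← hψ', Category.assoc, z₁₂ hC, comp_zero]
  · intro g hg
    exact IsCompl.of_triangle hC (IsCompl.of_triangle₁ ht hg.pi hg.pi) hg

/-- Orthogonality: `q` induces a bijection on morphisms to `s`-complete objects. -/
theorem bijective_comp {s : R} {L K C : T} {p : L ⟶ K} {q : K ⟶ C} {r : C ⟶ L⟦(1 : ℤ)⟧}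
    (h : Triangle.mk p q r ∈ distTriang T) (hL : Invt s L) {Z : T} (hZ : IsCompl s Z) :
    Function.Bijective (fun φ : C ⟶ Z => q ≫ φ) := by
  constructor
  · intro φ φ' hφ
    rw [← sub_eq_zero]
    have h1 : q ≫ (φ - φ') = 0 := by
      rw [Preadditive.comp_sub, sub_eq_zero]
      exact hφ
    obtain ⟨ψ, hψ⟩ := Triangle.yoneda_exact₃ _ h (φ - φ') h1
    have h2 : ψ = 0 := (hL.shift 1).eq_zero hZ ψ
    rw [hψ, h2]
    exact comp_zero
  · intro φ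
    have h1 : p ≫ φ = 0 := hL.eq_zero hZ _
    obtain ⟨ψ, hψ⟩ := Triangle.yoneda_exact₂ _ h φ h1
    exact ⟨ψ, hψ.symm⟩

end Step

end K780.Tele
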