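import Groth.Agent.DerComp.K780.ShiftNoeth
import Groth.Agent.DerComp.K780.TeleTri

/-!
# Iterated single-section completion and the effect on Hom groups
-/

set_option autoImplicit false
set_option linter.unusedSectionVars false

universe v u w

open CategoryTheory CategoryTheory.Limits Pretriangulated

namespace K780.Tele

open K780.ShiftAlg

variable {R : Type w} [CommRing R] {T : Type u} [Category.{v} T] [Preadditive T] [HasZeroObject T] [HasShift T ℤ]
  [∀ n : ℤ, (shiftFunctor T n).Additive] [Pretriangulated T] [Linear R T]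
  [∀ n : ℤ, Functor.Linear R (shiftFunctor T n)]

section Step

/-- Precomposition with an isomorphism, linearly. -/
def preI {X X' : T} (e : X' ≅ X) (K : T) : (X ⟶ K) ≃ₗ[R] (X' ⟶ K) where
  toFun φ := e.hom ≫ φ
  invFun φ := e.inv ≫ φ
  map_add' := by simp
  map_smul' := by simp
  left_inv φ := by simp
  right_inv φ := by simp

/-- Postcomposition with an isomorphism, linearly. -/
def postI {K K' : T} (e : K ≅ K') (X : T) : (X ⟶ K) ≃ₗ[R] (X ⟶ K') where
  toFun φ := φ ≫ e.hom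
  invFun φ := φ ≫ e.inv
  map_add' := by simp
  map_smul' := by simp
  left_inv φ := by simp
  right_inv φ := by simp

/-- `X[-n][n] = X`. -/
noncomputable def shI (X : T) (n : ℤ) : X ≅ X⟦-n⟧⟦n⟧ := ((shiftEquiv T n).counitIso.app X).symm

/-- `Hom(X[-n], K) = Hom(X, K[n])`. -/
noncomputable def shL (X K : T) (n : ℤ) : (X⟦-n⟧ ⟶ K) ≃ₗ[R] (X ⟶ K⟦n⟧) :=
  (shiftHom (R := R) (X⟦-n⟧) K n).trans (preI (shI X n) _)

lemma shL_comp (X : T) {K K' : T} (n : ℤ) (φ : X⟦-n⟧ ⟶ K) (q : K ⟶ K') :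
    shL (R := R) X K' n (φ ≫ q) = shL (R := R) X K n φ ≫ q⟦n⟧' := by
  change (shI X n).hom ≫ (φ ≫ q)⟦n⟧' = ((shI X n).hom ≫ φ⟦n⟧') ≫ q⟦n⟧'
  rw [Functor.map_comp, Category.assoc]

variable {s : R} {L K C : T} {p : L ⟶ K} {q : K ⟶ C} {r : C ⟶ L⟦(1 : ℤ)⟧}

lemma step_of_triangle (h : Triangle.mk p q r ∈ distTriang T) (hL : Invt s L) (X : T) :
    Step (Linear.rightComp R X p) (Linear.rightComp R X q) (Linear.rightComp R X r)
      (Linear.rightComp R X (p⟦(1 : ℤ)⟧')) s where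
  ex1 := fun x => ⟨fun hx => (ex₂ h x hx).imp fun _ h => h.symm, fun ⟨y, hy⟩ => by
    rw [← hy]
    change (y ≫ p) ≫ q = 0
    rw [Category.assoc, z₁₂ h, comp_zero]⟩
  ex2 := fun x => ⟨fun hx => (ex₃ h x hx).imp fun _ h => h.symm, fun ⟨y, hy⟩ => by
    rw [← hy]
    change (y ≫ q) ≫ r = 0
    rw [Category.assoc, z₂₃ h, comp_zero]⟩
  ex3 := fun x => ⟨fun hx => (ex₁ h x hx).imp fun _ h => h.symm, fun ⟨y, hy⟩ => by
    rw [← hy]
    change (y ≫ r) ≫ p⟦(1 : ℤ)⟧' = 0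
    rw [Category.assoc, z₃₁ h, comp_zero]⟩
  surj := fun t => ((Invt.bijective hL X).2 t).imp fun _ h => h.symm
  bij := Invt.bijective (hL.shift 1) X

lemma Bdd.of_le {M : Type*} [AddCommGroup M] [Module R M] {M' : Type*} [AddCommGroup M'] [Module R M'] {f : R}
    (h : Bdd M f) (e : M ≃ₗ[R] M') : Bdd M' f := h.of_linearEquiv e

/-- The effect of a single-section completion on `Hom(X, -[n])`. -/
theorem good_step (h : Triangle.mk p q r ∈ distTriang T) (hL : Invt s L) (hC : IsCompl s C) (X : T)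
    (hN : ∀ n : ℤ, NL R (X ⟶ K⟦n⟧)) (n : ℤ) :
    NL R (X ⟶ C⟦n⟧) ∧ Good (Ideal.span {s}) (Linear.rightComp R X (q⟦n⟧')) := by
  have hP : Bdd (X⟦-n⟧ ⟶ K⟦(1 : ℤ)⟧) s := by
    have h1 : Bdd (X ⟶ K⟦1 + n⟧) s := (hN (1 + n)).bdd s
    let e : (X ⟶ K⟦1 + n⟧) ≃ₗ[R] (X ⟶ (K⟦(1 : ℤ)⟧)⟦n⟧) := postI ((shiftFunctorAdd T 1 n).app K) X
    exact (h1.of_linearEquiv e).of_linearEquiv (shL (R := R) X (K⟦(1 : ℤ)⟧) n).symm
  have hM : Bdd (X⟦-n⟧ ⟶ K) s := ((hN n).bdd s).of_linearEquiv (shL (R := R) X K n).symm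
  have hst := step_of_triangle h hL (X⟦-n⟧)
  have hg : Good (Ideal.span {s}) (Linear.rightComp R X (q⟦n⟧')) :=
    (hst.good hP).of_equiv (shL (R := R) X K n) (shL (R := R) X C n) fun φ => (shL_comp X n φ q).symm
  refine ⟨?_, hg⟩
  have hb : Bdd (X ⟶ C⟦n⟧) s := (hst.bdd hM).of_linearEquiv (shL (R := R) X C n)
  exact (hN n).of_good hg (Cmp.isAdicComplete (hC.shift n X) hb)

end Step

section Iter

variable [∀ K : T, HasProduct fun _ : ℕ => K]

/-- **The iterated completion.** -/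
theorem exists_iter (l : List R) (K : T) : ∃ (C : T) (q : K ⟶ C), (∀ s ∈ l, IsCompl s C) ∧
    (∀ g : R, IsCompl g K → IsCompl g C) ∧
    (∀ Z : T, (∀ s ∈ l, IsCompl s Z) → Function.Bijective (fun φ : C ⟶ Z => q ≫ φ)) ∧
    ∀ X : T, (∀ n : ℤ, NL R (X ⟶ K⟦n⟧)) → ∀ n : ℤ, NL R (X ⟶ C⟦n⟧) ∧
      Good (Ideal.span {s | s ∈ l}) (Linear.rightComp R X (q⟦n⟧')) := by
  induction l generalizing K with
  | nil =>
    refine ⟨K, 𝟙 K, by simp, fun g h => h, fun Z _ => ?_, fun X hX n => ⟨hX n, ?_⟩⟩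
    · simp only [Category.id_comp]
      exact Function.bijective_id
    · have : Linear.rightComp R X ((𝟙 K)⟦n⟧') = LinearMap.id := by
        ext φ
        simp
      rw [this]
      exact Good.id _
  | cons s l ih =>
    obtain ⟨L, C₁, p, q₁, r, ht, hL, hC₁, hg⟩ := exists_step s K
    obtain ⟨C, q₂, h1, h2, h3, h4⟩ := ih C₁
    refine ⟨C, q₁ ≫ q₂, ?_, fun g h => h2 g (hg g h), fun Z hZ => ?_, fun X hX n => ?_⟩
    · intro t ht'
      rcases List.mem_cons.1 ht' with rfl | ht'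
      · exact h2 _ hC₁
      · exact h1 _ ht'
    · have e1 := h3 Z fun t ht' => hZ t (List.mem_cons_of_mem _ ht')
      have e2 := bijective_comp ht hL (hZ s List.mem_cons_self)
      have e3 : (fun φ : C ⟶ Z => (q₁ ≫ q₂) ≫ φ) = (fun φ : C₁ ⟶ Z => q₁ ≫ φ) ∘ (fun φ : C ⟶ Z => q₂ ≫ φ) := by
        funext φ
        simp
      rw [e3]
      exact e2.comp e1
    · have g1 := fun m => good_step ht hL hC₁ X hX m
      have g2 := h4 X (fun m => (g1 m).1) n
      refine ⟨g2.1, ?_⟩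
      have e1 : Good (Ideal.span {t | t ∈ s :: l}) (Linear.rightComp R X (q₁⟦n⟧')) :=
        (g1 n).2.mono (Ideal.span_mono (by simp))
      have e2 : Good (Ideal.span {t | t ∈ s :: l}) (Linear.rightComp R X (q₂⟦n⟧')) :=
        g2.2.mono (Ideal.span_mono fun t ht' => List.mem_cons_of_mem _ ht')
      have e3 : Linear.rightComp R X ((q₁ ≫ q₂)⟦n⟧') =
          (Linear.rightComp R X (q₂⟦n⟧')).comp (Linear.rightComp R X (q₁⟦n⟧')) := by
        ext φ
        simp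
      rw [e3]
      exact e1.comp e2

end Iter

end K780.Tele
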