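import Groth.Agent.DerComp.K780.Res
import Groth.Agent.DerComp.K780.Iter

/-!
# Derived completion along a sheaf of ideals generated by global sections
-/

set_option autoImplicit false
set_option linter.unusedSectionVars false

universe v u w

open CategoryTheory CategoryTheory.Limits Opposite Pretriangulated

attribute [local instance] HasDerivedCategory.standard

namespace K780.GenBy

open K780.ShiftAlg K780.Tele K780.Away K780.Glob K780.Res

variable {C : Type u} [SmallCategory C] {J : GrothendieckTopology C} {O : Sheaf J CommRingCat.{u}}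

theorem isDerComp_iff_le (I : DerComp.IdealSh O) (K : DerivedCategory (ModSite.Mod O)) :
    DerComp.IsDerComp O I K ↔ I ≤ idealSh O K := by
  rw [Res.isDerComp_iff, DerComp.IdealSh.le_def]
  constructor
  · intro h U f hf
    rw [mem_idealSh]
    exact fun V g => h V _ (I.map_mem g hf)
  · intro h U f hf
    have h1 := (mem_idealSh O K U f).1 (h U hf) U (𝟙 U)
    rwa [op_id, CategoryTheory.Functor.map_id] at h1

theorem isCompl_iff_van (s : DerComp.GSec O) (K : DerivedCategory (ModSite.Mod O)) :
    IsCompl s K ↔ ∀ U : C, Van O K U (s.1 U) := isCompl_iff s K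

theorem contains_iff {ι : Type v} (s : ι → DerComp.GSec O) (K : DerivedCategory (ModSite.Mod O)) :
    (idealSh O K).Contains s ↔ ∀ i, IsCompl (s i) K := by
  refine forall_congr' fun i => ?_
  rw [isCompl_iff_van]
  constructor
  · intro h U
    have h1 := (mem_idealSh O K U _).1 (h U) U (𝟙 U)
    rwa [op_id, CategoryTheory.Functor.map_id] at h1
  · intro h U
    rw [mem_idealSh]
    intro V g
    have := h V
    rwa [← (s i).2 g] at this

/-- **Derived completeness for a sheaf of ideals generated by global sections.** -/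
theorem isDerComp_iff_of_isGenBy {ι : Type v} {s : ι → DerComp.GSec O} {I : DerComp.IdealSh O} (hI : I.IsGenBy s)
    (K : DerivedCategory (ModSite.Mod O)) : DerComp.IsDerComp O I K ↔ ∀ i, IsCompl (s i) K := by
  rw [isDerComp_iff_le, ← contains_iff]
  constructor
  · intro h i U
    exact h U (hI.1 i U)
  · intro h
    exact hI.2 _ h

/-- a sheaf of ideals containing `s i` for all `i` contains the ideal they generate. -/
theorem contains_span {ι : Type v} {s : ι → DerComp.GSec O} {I : DerComp.IdealSh O} (hI : I.Contains s)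
    {a : DerComp.GSec O} (ha : a ∈ Ideal.span (Set.range s)) (U : C) : a.1 U ∈ I.ideal U := by
  let ev : DerComp.GSec O →+* O.obj.obj (op U) := (Pi.evalRingHom _ U).comp (DerComp.GSec O).subtype
  have h1 : Ideal.span (Set.range s) ≤ (I.ideal U).comap ev := by
    rw [Ideal.span_le]
    rintro _ ⟨i, rfl⟩
    exact hI i U
  exact h1 ha

/-- Passing from an ideal of global sections to generators. -/
theorem isGenBy_of_span {ι : Type v} {s : ι → DerComp.GSec O} {𝔞 : Ideal (DerComp.GSec O)}
    (hs : Ideal.span (Set.range s) = 𝔞) {I : DerComp.IdealSh O}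
    (hI : I.IsGenBy (fun a : 𝔞 => (a : DerComp.GSec O))) : I.IsGenBy s := by
  refine ⟨fun i U => ?_, fun I' hI' => hI.2 I' fun a U => ?_⟩
  · have : s i ∈ 𝔞 := by
      rw [← hs]
      exact Ideal.subset_span ⟨i, rfl⟩
    exact hI.1 ⟨s i, this⟩ U
  · exact contains_span hI' (by rw [hs]; exact a.2) U

/-- Comparison of a reflection with the chosen derived completion. -/
theorem exists_iso_derCompletion (I : DerComp.IdealSh O) [DerComp.HasDerCompletion O I]
    {K K' : DerivedCategory (ModSite.Mod O)} (q : K ⟶ K') (hK' : DerComp.IsDerComp O I K')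
    (h : ∀ Z, DerComp.IsDerComp O I Z → Function.Bijective (fun φ : K' ⟶ Z => q ≫ φ)) :
    ∃ e : K' ≅ ((DerComp.derCompletion O I).obj K).obj, q ≫ e.hom = DerComp.toDerCompletion I K := by
  let L := ((DerComp.derCompletion O I).obj K).obj
  have hL : DerComp.IsDerComp O I L := ((DerComp.derCompletion O I).obj K).property
  let adj := DerComp.derCompletionAdj O I
  -- the universal property of the chosen completion
  have hu : ∀ Z (_ : DerComp.IsDerComp O I Z), Function.Bijective (fun φ : L ⟶ Z => DerComp.toDerCompletion I K ≫ φ) := by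
    intro Z hZ
    let e : (L ⟶ Z) ≃ ((DerComp.derCompletion O I).obj K ⟶ (⟨Z, hZ⟩ : DerComp.DComp O I)) :=
      ((ObjectProperty.fullyFaithfulι (DerComp.IsDerComp O I)).homEquiv
        (X := (DerComp.derCompletion O I).obj K) (Y := (⟨Z, hZ⟩ : DerComp.DComp O I))).symm
    have h1 := (e.trans (adj.homEquiv K ⟨Z, hZ⟩)).bijective
    have h2 : (fun φ : L ⟶ Z => DerComp.toDerCompletion I K ≫ φ) = (e.trans (adj.homEquiv K ⟨Z, hZ⟩)) := by
      funext φ
      change _ = adj.homEquiv K ⟨Z, hZ⟩ (e φ)
      rw [Adjunction.homEquiv_unit]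
      rfl
    rw [h2]
    exact h1
  obtain ⟨a, ha⟩ := (h L hL).2 (DerComp.toDerCompletion I K)
  obtain ⟨b, hb⟩ := (hu K' hK').2 q
  dsimp only at ha hb
  refine ⟨⟨a, b, ?_, ?_⟩, ha⟩
  · apply (h K' hK').1
    dsimp only
    rw [← Category.assoc, ha, hb, Category.comp_id]
  · apply (hu L hL).1
    dsimp only
    rw [← Category.assoc, hb, ha, Category.comp_id]

/-- **Hom groups into the derived completion**: for a finitely generated ideal `𝔞` of global sections generating the sheaf
of ideals `I` and an object `X` with all `Hom(X, K[n])` Noetherian-like, `Hom(X, K^[n])` is the `𝔞`-adic completion. -/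
theorem adic_of_isGenBy {I : DerComp.IdealSh O} [DerComp.HasDerCompletion O I] {𝔞 : Ideal (DerComp.GSec O)}
    (h𝔞 : 𝔞.FG) (hI : I.IsGenBy (fun a : 𝔞 => (a : DerComp.GSec O))) (K X : DerivedCategory (ModSite.Mod O))
    (hX : ∀ n : ℤ, NL (DerComp.GSec O) (X ⟶ K⟦n⟧)) (n : ℤ) :
    IsAdicComplete 𝔞 (X ⟶ ((DerComp.derCompletion O I).obj K).obj⟦n⟧) ∧
      Good 𝔞 (Linear.rightComp (DerComp.GSec O) X
        ((shiftFunctor (DerivedCategory (ModSite.Mod O)) n).map (DerComp.toDerCompletion I K))) := by
  have := hasProduct (O := O)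
  obtain ⟨t, ht⟩ := h𝔞
  obtain ⟨K', q, h1, -, h3, h4⟩ := exists_iter t.toList K
  have hgen : I.IsGenBy (fun i : t => (i : DerComp.GSec O)) := by
    refine isGenBy_of_span (𝔞 := 𝔞) ?_ hI
    rw [← ht]
    congr 1
    ext x
    simp
  have hiff : ∀ Z, DerComp.IsDerComp O I Z ↔ ∀ s ∈ t.toList, IsCompl s Z := fun Z => by
    rw [isDerComp_iff_of_isGenBy hgen]
    exact ⟨fun h s hs => h ⟨s, Finset.mem_toList.1 hs⟩, fun h i => h i.1 (Finset.mem_toList.2 i.2)⟩
  obtain ⟨e, he⟩ := exists_iso_derCompletion I q ((hiff K').2 h1) fun Z hZ => h3 Z ((hiff Z).1 hZ)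
  have hspan : Ideal.span {s | s ∈ t.toList} = 𝔞 := by
    rw [← ht]
    congr 1
    ext x
    simp
  have h5 := h4 X hX n
  rw [hspan] at h5
  let e' : (X ⟶ K'⟦n⟧) ≃ₗ[DerComp.GSec O] (X ⟶ ((DerComp.derCompletion O I).obj K).obj⟦n⟧) :=
    postI ((shiftFunctor (DerivedCategory (ModSite.Mod O)) n).mapIso e) X
  constructor
  · have h6 : IsAdicComplete (Ideal.span (Set.range (fun i : t => (i : DerComp.GSec O)))) (X ⟶ K'⟦n⟧) :=
      h5.1.isAdicComplete (fun i : t => (i : DerComp.GSec O)) fun i => (h1 i.1 (Finset.mem_toList.2 i.2)).shift n X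
    have h7 : Ideal.span (Set.range (fun i : t => (i : DerComp.GSec O))) = 𝔞 := by
      rw [← ht]
      congr 1
      ext x
      simp
    rw [h7] at h6
    exact isAdicComplete_of_equiv h6 e'
  · refine h5.2.of_equiv (LinearEquiv.refl _ _) e' fun φ => ?_
    change φ ≫ (shiftFunctor (DerivedCategory (ModSite.Mod O)) n).map (DerComp.toDerCompletion I K) =
      (φ ≫ q⟦n⟧') ≫ e.hom⟦n⟧'
    rw [← he, Functor.map_comp, Category.assoc]

end K780.GenBy
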