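import Groth.Agent.DerComp.K780.Res
import Groth.Agent.DerComp.K779.Push
import Groth.Agent.S13482

/-!
# The morphism of ringed sites from a localisation `C/U` of a site with finite limits

`jmor O U : RMor (O.over U) O` has underlying functor `V ↦ V × U`, and `restr O U` is left adjoint to its direct image.
Derived completion commutes with restriction to `U`.
-/

set_option autoImplicit false

universe v v' u u'

open CategoryTheory CategoryTheory.Limits Opposite

attribute [local instance] HasDerivedCategory.standard

namespace K780.OpenPush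

section Refl

variable {D : Type u} [Category.{v} D] {D' : Type u'} [Category.{v'} D'] {L : D ⥤ D'} {R : D' ⥤ D} (adj : L ⊣ R)
  {P : ObjectProperty D} {P' : ObjectProperty D'} {G : D ⥤ P.FullSubcategory} (a : G ⊣ P.ι)
  {G' : D' ⥤ P'.FullSubcategory} (a' : G' ⊣ P'.ι) (hR : ∀ Y, P' Y → P (R.obj Y))

include adj hR in
/-- If `L ⊣ R` and `R` preserves the local objects, then `L` preserves reflections. -/
theorem isIso_refl (X : D) (h : P' (L.obj (G.obj X).obj)) :
    IsIso ((a'.homEquiv (L.obj X) ⟨L.obj (G.obj X).obj, h⟩).symm (L.map (a.unit.app X))) := by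
  apply isIso_of_coyoneda_map_bijective
  intro Y
  have h1 : ∀ x : (⟨L.obj (G.obj X).obj, h⟩ : P'.FullSubcategory) ⟶ Y,
      adj.homEquiv _ _ (a'.homEquiv _ _ ((a'.homEquiv (L.obj X) ⟨L.obj (G.obj X).obj, h⟩).symm
        (L.map (a.unit.app X)) ≫ x)) = a.unit.app X ≫ adj.homEquiv _ _ x.hom := by
    intro x
    rw [Adjunction.homEquiv_naturality_right, Equiv.apply_symm_apply]
    exact adj.homEquiv_naturality_left (a.unit.app X) x.hom
  have h2 : Function.Bijective (fun y : (G.obj X).obj ⟶ R.obj Y.obj => a.unit.app X ≫ y) := by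
    have h3 := (a.homEquiv X ⟨R.obj Y.obj, hR _ Y.property⟩).bijective
    have h4 : (fun y : (G.obj X).obj ⟶ R.obj Y.obj => a.unit.app X ≫ y) =
        (a.homEquiv X ⟨R.obj Y.obj, hR _ Y.property⟩) ∘
          (fun y : (G.obj X).obj ⟶ R.obj Y.obj => (ObjectProperty.homMk y :
            G.obj X ⟶ (⟨R.obj Y.obj, hR _ Y.property⟩ : P.FullSubcategory))) := by
      funext y
      exact (a.homEquiv_unit X ⟨R.obj Y.obj, hR _ Y.property⟩ (ObjectProperty.homMk y :
            G.obj X ⟶ (⟨R.obj Y.obj, hR _ Y.property⟩ : P.FullSubcategory))).symm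
    rw [h4]
    refine h3.comp ⟨fun y z hyz => ?_, fun y => ⟨y.hom, rfl⟩⟩
    exact congrArg (fun t => t.hom) hyz
  have h5 : Function.Bijective (fun x : (⟨L.obj (G.obj X).obj, h⟩ : P'.FullSubcategory) ⟶ Y => x.hom) :=
    ⟨fun y z hyz => InducedCategory.hom_ext hyz, fun y => ⟨ObjectProperty.homMk y, rfl⟩⟩
  have h6 : Function.Bijective (fun x : (⟨L.obj (G.obj X).obj, h⟩ : P'.FullSubcategory) ⟶ Y =>
      adj.homEquiv _ _ (a'.homEquiv _ _ ((a'.homEquiv (L.obj X) ⟨L.obj (G.obj X).obj, h⟩).symm
        (L.map (a.unit.app X)) ≫ x))) := by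
    simp only [h1]
    exact h2.comp ((adj.homEquiv _ _).bijective.comp h5)
  exact (Function.Bijective.of_comp_iff' ((adj.homEquiv _ _).bijective.comp (a'.homEquiv _ _).bijective) _).1 h6

end Refl

variable {C : Type u} [SmallCategory C] [HasFiniteLimits C] {J : GrothendieckTopology C}
  (O : Sheaf J CommRingCat.{u}) (U : C)

instance flat_star : RepresentablyFlat (Over.star U) := by
  have : (Over.star U).IsRightAdjoint := (Over.forgetAdjStar U).isRightAdjoint
  have : PreservesFiniteLimits (Over.star U) := inferInstance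
  exact flat_of_preservesFiniteLimits _

set_option backward.defeqAttrib.useBackward true in
/-- the structure map `O → j_* O_U` -/
noncomputable def sharp : O ⟶ ((Over.star U).sheafPushforwardContinuous CommRingCat.{u} J (J.over U)).obj (O.over U) :=
  ⟨{app V := O.obj.map Limits.prod.snd.op
    naturality V W f := by simp [← Functor.map_comp, ← op_comp]; rfl }⟩

/-- the morphism of ringed sites of a localisation. -/
noncomputable def jmor : ModSite.RMor (O.over U) O := ModSite.RMor.ofFlat (Over.star U) (sharp O U)

/-- restriction is left adjoint to direct image. -/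
noncomputable def adj : ModSite.restr O U ⊣ (jmor O U).push :=
  SheafOfModules.overPushforwardOverAdj (R := ModSite.ringSh O) U

instance : SiteCmp.HasRpushD (jmor O U) := K578.Der.hasRpushD _

variable [(ModSite.restr O U).Additive] [PreservesFiniteLimits (ModSite.restr O U)]
  [PreservesFiniteColimits (ModSite.restr O U)]

/-- derived restriction is left adjoint to derived direct image. -/
noncomputable def adjD : (ModSite.restr O U).mapDerivedCategory ⊣ SiteCmp.RpushD (jmor O U) :=
  haveI := Groth.Agent.Dcoh.DerComp.isLeftDerivedFunctor_mapDerivedCategory (ModSite.restr O U)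
  Groth.Agent.Dcoh.DerAdj.derivedAdj (adj O U) (K578.Der.hasKInj (O.over U))
    (Groth.Agent.Dcoh.DerComp.leftDataExact _)
    (ModSite.restr O U).mapDerivedCategory (ModSite.restr O U).mapDerivedCategoryFactorsh.hom
    (SiteCmp.RpushD (jmor O U)) (K578.Der.rpushUnit (jmor O U))

omit [(ModSite.restr O U).Additive] [PreservesFiniteLimits (ModSite.restr O U)]
  [PreservesFiniteColimits (ModSite.restr O U)] in
theorem mapsIdealInto (I : DerComp.IdealSh O) : DerComp.RMapsIdealInto (jmor O U) I (I.over U) :=
  fun _ _ hg => I.map_mem _ hg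

/-- Derived completion commutes with restriction. -/
theorem main (I : DerComp.IdealSh O) [DerComp.HasDerCompletion O I] [DerComp.HasDerCompletion (O.over U) (I.over U)]
    (F : DerivedCategory (ModSite.Mod O))
    (h : DerComp.IsDerComp (O.over U) (I.over U)
      ((ModSite.restr O U).mapDerivedCategory.obj ((DerComp.derCompletion O I).obj F).obj)) :
    IsIso (((DerComp.derCompletionAdj (O.over U) (I.over U)).homEquiv ((ModSite.restr O U).mapDerivedCategory.obj F)
      ⟨(ModSite.restr O U).mapDerivedCategory.obj ((DerComp.derCompletion O I).obj F).obj, h⟩).symm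
      ((ModSite.restr O U).mapDerivedCategory.map (DerComp.toDerCompletion I F))) :=
  isIso_refl (adjD O U) (DerComp.derCompletionAdj O I) (DerComp.derCompletionAdj (O.over U) (I.over U))
    (fun Y hY => Groth.Agent.S13482.result (jmor O U) I (I.over U) (mapsIdealInto O U I) Y hY) F h

end K780.OpenPush
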