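import Groth.Agent.DerComp.K780.Glob

/-!
# Derived restriction and locality of the vanishing of `T(K, f)`

`resD O U : D(O) ⥤ D(O_U)` is the derived restriction.  `Van O K V f` is the vanishing of all
`Hom(j_{V!} O_{V,f}, K[n])`; it is compatible with restriction (`van_res`), local, and the `f` with `Van O K V (f|_V)` for all
`V → U` form a sheaf of ideals (`idealSh`).
-/

set_option autoImplicit false
set_option linter.unusedSectionVars false

universe v u w

open CategoryTheory CategoryTheory.Limits Opposite Pretriangulated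

attribute [local instance] HasDerivedCategory.standard

namespace K780.Res

open K780.ShiftAlg K780.Tele K780.Away K780.Glob K779.Sec

variable {C : Type u} [SmallCategory C] {J : GrothendieckTopology C} (O : Sheaf J CommRingCat.{u})

attribute [local instance] preservesFiniteLimits_extZero preservesFiniteColimits_extZero

/-- derived restriction -/
noncomputable abbrev resD (U : C) : DerivedCategory (ModSite.Mod O) ⥤ DerivedCategory (ModSite.Mod (O.over U)) :=
  (ModSite.restr O U).mapDerivedCategory

/-- `Hom(j_! Y, K[n]) = Hom(Y, K|_U[n])`. -/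
noncomputable def homRes (U : C) (Y : ModSite.Mod (O.over U)) (K : DerivedCategory (ModSite.Mod O)) (n : ℤ) :
    (SiteCmp.inD O ((ModSite.extZero O U).obj Y) ⟶ K⟦n⟧) ≃+ (SiteCmp.inD (O.over U) Y ⟶ ((resD O U).obj K)⟦n⟧) :=
  Groth.Agent.CohtopB.ExactDerAdj.homEquivSingle (ModSite.extZeroAdj O U) Y K n

lemma homRes_comp (U : C) {Y Y' : ModSite.Mod (O.over U)} (f : Y ⟶ Y') (K : DerivedCategory (ModSite.Mod O)) (n : ℤ)
    (x : SiteCmp.inD O ((ModSite.extZero O U).obj Y') ⟶ K⟦n⟧) :
    homRes O U Y K n ((DerivedCategory.singleFunctor (ModSite.Mod O) 0).map ((ModSite.extZero O U).map f) ≫ x) =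
      (DerivedCategory.singleFunctor (ModSite.Mod (O.over U)) 0).map f ≫ homRes O U Y' K n x := by
  change (Groth.Agent.CohtopB.ExactDerAdj.derivedAdj (ModSite.extZeroAdj O U)).homEquiv _ _
      (((ModSite.extZero O U).mapDerivedCategorySingleFunctor 0).hom.app Y ≫ _ ≫ x) ≫ _ =
      _ ≫ (Groth.Agent.CohtopB.ExactDerAdj.derivedAdj (ModSite.extZeroAdj O U)).homEquiv _ _
      (((ModSite.extZero O U).mapDerivedCategorySingleFunctor 0).hom.app Y' ≫ x) ≫ _
  rw [← Category.assoc, ← Category.assoc]
  congr 1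
  rw [← Adjunction.homEquiv_naturality_left]
  congr 1
  have h := ((ModSite.extZero O U).mapDerivedCategorySingleFunctor 0).hom.naturality f
  exact (congrArg (fun t => t ≫ x) h.symm).trans (Category.assoc _ _ _)

section Free

variable {O} {U : C} (V : Over U)

/-- a section of `O` over `V`, seen as a section of `O_U` over `V → U`. -/
abbrev dn {V : Over U} (f : O.obj.obj (op V.left)) : (O.over U).obj.obj (op V) := f

/-- morphisms `j_{U!} (j_{V!} O_V) → F` are sections of `F` over `V`. -/
noncomputable def secR (F : ModSite.Mod O) :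
    ((ModSite.extZero O U).obj (ModSite.freeOn (O.over U) V) ⟶ F) ≃ F.val.obj (op V.left) :=
  ((ModSite.extZeroAdj O U).homEquiv _ _).trans (sec (O.over U) V ((ModSite.restr O U).obj F)).toEquiv

lemma secR_comp {F G : ModSite.Mod O} (φ : (ModSite.extZero O U).obj (ModSite.freeOn (O.over U) V) ⟶ F) (ψ : F ⟶ G) :
    secR V G (φ ≫ ψ) = (ψ.val.app _).hom (secR V F φ) := by
  change sec (O.over U) V _ ((ModSite.extZeroAdj O U).homEquiv _ _ (φ ≫ ψ)) = _
  rw [Adjunction.homEquiv_naturality_right, sec_comp]
  rfl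

lemma secR_mul {F : ModSite.Mod O} (f : O.obj.obj (op V.left))
    (φ : (ModSite.extZero O U).obj (ModSite.freeOn (O.over U) V) ⟶ F) :
    secR V F ((ModSite.extZero O U).map (mul (O.over U) V (dn f)) ≫ φ) = sc f • secR V F φ := by
  change sec (O.over U) V _ ((ModSite.extZeroAdj O U).homEquiv _ _ (_ ≫ φ)) = _
  rw [Adjunction.homEquiv_naturality_left]
  exact sec_mul (O.over U) V (dn f) _

/-- `j_{U!} (j_{V!} O_V) = j_{V!} O_V`. -/
noncomputable def freeIso : (ModSite.extZero O U).obj (ModSite.freeOn (O.over U) V) ≅ ModSite.freeOn O V.left where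
  hom := (secR V _).symm (sec O V.left _ (𝟙 _))
  inv := (sec O V.left _).symm (secR V _ (𝟙 _))
  hom_inv_id := by
    apply (secR V _).injective
    rw [secR_comp, Equiv.apply_symm_apply, ← sec_comp, Category.id_comp, AddEquiv.apply_symm_apply]
  inv_hom_id := by
    apply (sec O V.left _).injective
    rw [sec_comp, AddEquiv.apply_symm_apply, ← secR_comp, Category.id_comp, Equiv.apply_symm_apply]

lemma secR_freeIso (F : ModSite.Mod O) (φ : ModSite.freeOn O V.left ⟶ F) :
    secR V F ((freeIso V).hom ≫ φ) = sec O V.left F φ := by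
  rw [secR_comp]
  change (φ.val.app _).hom (secR V _ ((secR V _).symm _)) = _
  rw [Equiv.apply_symm_apply, ← sec_comp, Category.id_comp]

lemma mul_freeIso (f : O.obj.obj (op V.left)) :
    (ModSite.extZero O U).map (mul (O.over U) V (dn f)) ≫ (freeIso V).hom = (freeIso V).hom ≫ mul O V.left f := by
  apply (secR V _).injective
  rw [secR_mul, secR_freeIso]
  have h1 := secR_freeIso V _ (𝟙 (ModSite.freeOn O V.left))
  have h2 := sec_mul O V.left f (𝟙 (ModSite.freeOn O V.left))
  rw [Category.comp_id] at h1 h2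
  rw [h1, h2]

end Free

/-- `T(K|_V, f)` has no sections over `V`: all `Hom(j_{V!} O_{V,f}, K[n])` vanish. -/
def Van (K : DerivedCategory (ModSite.Mod O)) (V : C) (f : O.obj.obj (op V)) : Prop :=
  ∀ n : ℤ, Subsingleton (SiteCmp.inD O ((ModSite.extZero O V).obj (DerComp.awayOver O V f)) ⟶ K⟦n⟧)

/-- multiplication by `f` on `Hom(j_{V!} O_V, L)`. -/
noncomputable abbrev mulH (V : C) (f : O.obj.obj (op V)) (L : DerivedCategory (ModSite.Mod O)) :
    (SiteCmp.inD O (ModSite.freeOn O V) ⟶ L) →+ (SiteCmp.inD O (ModSite.freeOn O V) ⟶ L) :=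
  pre ((DerivedCategory.singleFunctor (ModSite.Mod O) 0).map (mul O V f)) L

theorem van_iff (K : DerivedCategory (ModSite.Mod O)) (V : C) (f : O.obj.obj (op V)) :
    Van O K V f ↔ ∀ n : ℤ, Cmpl (mulH O V f (K⟦n⟧)) :=
  subsingleton_iff_cmpl O V (DerComp.GSec.ofSect O V f) (ModSite.unit (O.over V)) K

theorem isDerComp_iff (I : DerComp.IdealSh O) (K : DerivedCategory (ModSite.Mod O)) :
    DerComp.IsDerComp O I K ↔ ∀ (U : C) (f : O.obj.obj (op U)), f ∈ I.ideal U → Van O K U f := Iff.rfl

lemma cmpl_iff_of_equiv {M N : Type*} [AddCommGroup M] [AddCommGroup N] {φ : M →+ M} {φ' : N →+ N} (e : M ≃+ N)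
    (he : ∀ x, e (φ x) = φ' (e x)) : Cmpl φ ↔ Cmpl φ' :=
  ⟨fun h => h.of_equiv e he, fun h => h.of_equiv e.symm fun x => by
    apply e.injective
    rw [he, e.apply_symm_apply, e.apply_symm_apply]⟩

/-- **Compatibility with restriction.** -/
theorem van_res (K : DerivedCategory (ModSite.Mod O)) {U : C} (V : Over U) (f : O.obj.obj (op V.left)) :
    Van (O.over U) ((resD O U).obj K) V (dn f) ↔ Van O K V.left f := by
  rw [van_iff, van_iff]
  refine forall_congr' fun n => ?_
  let e₁ := homRes O U (ModSite.freeOn (O.over U) V) K n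
  let i : SiteCmp.inD O ((ModSite.extZero O U).obj (ModSite.freeOn (O.over U) V)) ≅
    SiteCmp.inD O (ModSite.freeOn O V.left) := (DerivedCategory.singleFunctor (ModSite.Mod O) 0).mapIso (freeIso V)
  let e₂ : (SiteCmp.inD O (ModSite.freeOn O V.left) ⟶ K⟦n⟧) ≃+
      (SiteCmp.inD O ((ModSite.extZero O U).obj (ModSite.freeOn (O.over U) V)) ⟶ K⟦n⟧) :=
    { toFun := fun x => i.hom ≫ x
      invFun := fun x => i.inv ≫ x
      left_inv := fun x => by simp
      right_inv := fun x => by simp
      map_add' := fun x y => by simp }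
  let e := e₂.trans e₁
  refine (cmpl_iff_of_equiv e fun x => ?_).symm
  change e₁ (i.hom ≫ (DerivedCategory.singleFunctor (ModSite.Mod O) 0).map (mul O V.left f) ≫ x) =
      (DerivedCategory.singleFunctor (ModSite.Mod (O.over U)) 0).map (mul (O.over U) V (dn f)) ≫ e₁ (i.hom ≫ x)
  rw [← homRes_comp]
  refine congrArg _ ?_
  have h1 : (DerivedCategory.singleFunctor (ModSite.Mod O) 0).map ((ModSite.extZero O U).map (mul (O.over U) V (dn f))) ≫
      i.hom = i.hom ≫ (DerivedCategory.singleFunctor (ModSite.Mod O) 0).map (mul O V.left f) := by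
    refine ((DerivedCategory.singleFunctor (ModSite.Mod O) 0).map_comp _ _).symm.trans ?_
    rw [mul_freeIso, Functor.map_comp]
    rfl
  rw [← Category.assoc, ← h1, Category.assoc]

section Ideal

lemma sec_mul_one (V : C) (f : O.obj.obj (op V)) :
    sec O V _ (mul O V f) = sc f • sec O V _ (𝟙 (ModSite.freeOn O V)) := by
  have := sec_mul O V f (𝟙 (ModSite.freeOn O V))
  rwa [Category.comp_id] at this

lemma mul_add' (V : C) (f g : O.obj.obj (op V)) : mul O V (f + g) = mul O V f + mul O V g := by
  apply (sec O V _).injective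
  rw [map_add, sec_mul_one, sec_mul_one, sec_mul_one]
  exact add_smul (sc f) (sc g) _

lemma mul_zero' (V : C) : mul O V (0 : O.obj.obj (op V)) = 0 := by
  apply (sec O V _).injective
  rw [map_zero, sec_mul_one]
  exact zero_smul ((ModSite.ringSh O).obj.obj (op V)) _

lemma mul_mul' (V : C) (f g : O.obj.obj (op V)) : mul O V (f * g) = mul O V f ≫ mul O V g := by
  apply (sec O V _).injective
  rw [sec_mul, sec_mul_one, sec_mul_one]
  exact mul_smul (sc f) (sc g) _

lemma mulH_add (V : C) (f g : O.obj.obj (op V)) (L : DerivedCategory (ModSite.Mod O)) :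
    mulH O V (f + g) L = mulH O V f L + mulH O V g L := by
  ext x
  rw [AddMonoidHom.add_apply, pre_apply, pre_apply, pre_apply, mul_add', Functor.map_add, Preadditive.add_comp]

lemma mulH_mul (V : C) (f g : O.obj.obj (op V)) (L : DerivedCategory (ModSite.Mod O)) :
    mulH O V (f * g) L = (mulH O V f L).comp (mulH O V g L) := by
  ext x
  rw [AddMonoidHom.comp_apply, pre_apply, pre_apply, pre_apply, mul_mul', Functor.map_comp, Category.assoc]

lemma mulH_comm (V : C) (f g : O.obj.obj (op V)) (L : DerivedCategory (ModSite.Mod O)) (x) :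
    mulH O V f L (mulH O V g L x) = mulH O V g L (mulH O V f L x) := by
  rw [← AddMonoidHom.comp_apply, ← mulH_mul, mul_comm, mulH_mul, AddMonoidHom.comp_apply]

/-- The ideal of `O(V)` of all `f` with `Van O K V f`. -/
def vanIdeal (K : DerivedCategory (ModSite.Mod O)) (V : C) : Ideal (O.obj.obj (op V)) where
  carrier := {f | Van O K V f}
  zero_mem' := by
    refine (van_iff O K V 0).2 fun n => cmpl_of (fun x hx => ?_) (fun w => ⟨w, fun k => ?_⟩)
    · funext k
      rw [hx k, pre_apply, mul_zero', Functor.map_zero, zero_comp]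
      rfl
    · rw [pre_apply, mul_zero', Functor.map_zero, zero_comp, add_zero]
  add_mem' {f g} hf hg := by
    refine (van_iff O K V _).2 fun n => ?_
    rw [mulH_add]
    exact ((van_iff O K V f).1 hf n).add ((van_iff O K V g).1 hg n) (mulH_comm O V f g _)
  smul_mem' f g hg := by
    refine (van_iff O K V _).2 fun n => ?_
    rw [smul_eq_mul, mulH_mul]
    exact ((van_iff O K V g).1 hg n).comp (mulH_comm O V g f _)

lemma mem_vanIdeal (K : DerivedCategory (ModSite.Mod O)) (V : C) (f : O.obj.obj (op V)) :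
    f ∈ vanIdeal O K V ↔ Van O K V f := Iff.rfl

/-- **Locality**: `Van O K W f` can be checked on a covering, provided it is stable under restriction. -/
theorem van_of_covering (K : DerivedCategory (ModSite.Mod O)) {W : C} (f : O.obj.obj (op W)) (S : Sieve W)
    (hS : S ∈ J W) (h : ∀ ⦃V : C⦄ (g : V ⟶ W), S g → Van O K V ((O.obj.map g.op).hom f)) : Van O K W f := by
  let s : DerComp.GSec (O.over W) := DerComp.GSec.ofSect O W f
  have hB : K779.Gen.Covering (J.over W) (fun V : Over W => S V.hom) := fun V => by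
    refine ⟨(Sieve.overEquiv V).symm (S.pullback V.hom),
      J.overEquiv_symm_mem_over _ _ (J.pullback_stable V.hom hS), fun V' g hg => ?_⟩
    have h1 : (S.pullback V.hom) g.left := (Sieve.overEquiv_symm_iff _ g).1 hg
    change S (g.left ≫ V.hom) at h1
    rwa [Over.w] at h1
  have hc : IsCompl s ((resD O W).obj K) := by
    refine isCompl_of_covering s _ hB _ fun V hV n => ?_
    have h1 := (van_iff (O.over W) _ V _).1 ((van_res O K V ((O.obj.map V.hom.op).hom f)).2 (h V.hom hV)) n
    have h2 := cmpl_pre_iff s V (ModSite.unit ((O.over W).over V)) (((resD O W).obj K)⟦n⟧)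
    rw [← ofSect_eq] at h2
    exact h2.1 h1
  intro n
  have h3 := subsingleton_of_isCompl' hc (ModSite.unit (O.over W)) n
  exact (homRes O W (DerComp.awayOver O W f) K n).toEquiv.subsingleton

/-- **The sheaf of ideals** of all `f` with `T(K|_U, f) = 0`. -/
def idealSh (K : DerivedCategory (ModSite.Mod O)) : DerComp.IdealSh O where
  ideal U := ⨅ (V : C), ⨅ (g : V ⟶ U), (vanIdeal O K V).comap (O.obj.map g.op).hom
  map_mem {U V} g f hf := by
    simp only [Submodule.mem_iInf, Ideal.mem_comap] at hf ⊢
    intro W h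
    have := hf W (h ≫ g)
    rwa [op_comp, Functor.map_comp, CommRingCat.comp_apply] at this
  glue {U f} S hS h := by
    simp only [Submodule.mem_iInf, Ideal.mem_comap] at h ⊢
    intro W g
    refine van_of_covering O K _ (S.pullback g) (J.pullback_stable g hS) fun V g' hg' => ?_
    have h1 := h (g' ≫ g) hg' V (𝟙 V)
    rw [op_comp, Functor.map_comp, CommRingCat.comp_apply, op_id, CategoryTheory.Functor.map_id] at h1
    exact h1

lemma mem_idealSh (K : DerivedCategory (ModSite.Mod O)) (U : C) (f : O.obj.obj (op U)) :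
    f ∈ (idealSh O K).ideal U ↔ ∀ (V : C) (g : V ⟶ U), Van O K V ((O.obj.map g.op).hom f) := by
  simp only [idealSh, Submodule.mem_iInf, Ideal.mem_comap]
  rfl

end Ideal

end K780.Res
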