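import Groth.Agent.DerComp.K780.Away
import Groth.Agent.DerComp.K779.Gen
import Groth.Agent.CohtopB.ExactDerAdj
import Groth.Agent.ModSite.K293.Restr
import Groth.Agent.CohtopA.DerProd

/-!
# Derived completeness with respect to a global section

For a global section `s` of `O` and `K ∈ D(O)`: `IsCompl s K` (all `Hom(X, K)` are `s`-complete) iff
`Hom(j_{U!} O_{U,s}, K[n]) = 0` for all `U`, `n`, and it can be checked on `Hom(j_{U!} O_U, K[n])` for `U` in a covering class.
-/

set_option autoImplicit false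
set_option linter.unusedSectionVars false

universe v u w

open CategoryTheory CategoryTheory.Limits Opposite Pretriangulated

attribute [local instance] HasDerivedCategory.standard

namespace K780.Glob

open K780.ShiftAlg K780.Tele K780.Away

section Abs

variable {R : Type w} [CommRing R] {T : Type u} [Category.{v} T] [Preadditive T] [HasZeroObject T] [HasShift T ℤ]
  [∀ n : ℤ, (shiftFunctor T n).Additive] [Pretriangulated T] [Linear R T]
  [∀ n : ℤ, Functor.Linear R (shiftFunctor T n)]

/-- Precomposition with an isomorphism, linearly. -/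
def preIso {X X' : T} (e : X' ≅ X) (K : T) : (X ⟶ K) ≃ₗ[R] (X' ⟶ K) where
  toFun φ := e.hom ≫ φ
  invFun φ := e.inv ≫ φ
  map_add' := by simp
  map_smul' := by simp
  left_inv φ := by simp
  right_inv φ := by simp

/-- Postcomposition with an isomorphism, linearly. -/
def postIso {K K' : T} (e : K ≅ K') (X : T) : (X ⟶ K) ≃ₗ[R] (X ⟶ K') where
  toFun φ := φ ≫ e.hom
  invFun φ := φ ≫ e.inv
  map_add' := by simp
  map_smul' := by simp
  left_inv φ := by simp
  right_inv φ := by simp

lemma cmp_shift_left {s : R} {X K : T} (h : ∀ n : ℤ, Cmp (X ⟶ K⟦n⟧) s) (n : ℤ) : Cmp (X⟦n⟧ ⟶ K) s := by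
  have h1 := (h (-n)).of_linearEquiv (shiftHom (R := R) X (K⟦-n⟧) n)
  exact h1.of_linearEquiv (postIso ((shiftEquiv T n).counitIso.app K) _)

variable {s : R} {K : T} [HasProduct fun _ : ℕ => K]
variable {L : T} {a : L ⟶ ∏ᶜ fun _ : ℕ => K} {c : (∏ᶜ fun _ : ℕ => K) ⟶ L⟦(1 : ℤ)⟧}

lemma bijective_dm {Y : T} (h : Cmp (Y ⟶ K) s) : Function.Bijective (fun φ : Y ⟶ ∏ᶜ fun _ : ℕ => K => φ ≫ dm s K) := by
  constructor
  · intro φ ψ hφ
    dsimp only at hφ
    rw [← sub_eq_zero] at hφ ⊢
    rw [← Preadditive.sub_comp] at hφ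
    have h3 : seqEquiv (R := R) _ (φ - ψ) = 0 := by
      apply h.eq_zero
      intro k
      have := congrArg (fun φ => seqEquiv (R := R) _ φ k) hφ
      simp only [seqEquiv_dm, map_zero, Pi.zero_apply] at this
      rwa [sub_eq_zero] at this
    exact (seqEquiv (R := R) _).map_eq_zero_iff.1 h3
  · intro ψ
    obtain ⟨x, hx⟩ := h.exists_sol (seqEquiv (R := R) _ ψ)
    refine ⟨(seqEquiv (R := R) _).symm x, ?_⟩
    apply (seqEquiv (R := R) _).injective
    ext n
    dsimp only
    rw [seqEquiv_dm, LinearEquiv.apply_symm_apply, hx n]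
    abel

/-- If all `Hom(X, K[n])` are `s`-complete then all `Hom(X, T(K,s)[n])` vanish. -/
theorem tele_subsingleton (ht : Triangle.mk a (dm s K) c ∈ distTriang T) {X : T} (h : ∀ n : ℤ, Cmp (X ⟶ K⟦n⟧) s)
    (n : ℤ) : Subsingleton (X ⟶ L⟦n⟧) := by
  have key : ∀ (m : ℤ) (φ : X⟦m⟧ ⟶ L), φ = 0 := fun m φ => by
    have h1 : φ ≫ a = 0 := by
      apply (bijective_dm (cmp_shift_left h m)).1
      dsimp only
      rw [Category.assoc, z₁₂ ht, comp_zero, zero_comp]
    have h2 : φ⟦(1 : ℤ)⟧' ≫ a⟦(1 : ℤ)⟧' = 0 := by rw [← Functor.map_comp, h1, Functor.map_zero]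
    obtain ⟨ψ, hψ⟩ := ex₁ ht _ h2
    have h3 : Cmp ((X⟦m⟧)⟦(1 : ℤ)⟧ ⟶ K) s :=
      (cmp_shift_left h (m + 1)).of_linearEquiv (preIso ((shiftFunctorAdd T m 1).app X).symm K)
    obtain ⟨θ, hθ⟩ := (bijective_dm h3).2 ψ
    dsimp only at hθ
    apply (shiftFunctor T (1 : ℤ)).map_injective
    rw [hψ, ← hθ, Category.assoc, z₂₃ ht, comp_zero, Functor.map_zero]
  refine ⟨fun x y => ?_⟩
  rw [← sub_eq_zero]
  generalize x - y = z
  apply (shiftFunctor T (-n)).map_injective
  let e : L⟦n⟧⟦-n⟧ ≅ L := (shiftEquiv T n).unitIso.symm.app L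
  rw [Functor.map_zero, ← cancel_mono e.hom, zero_comp]
  exact key _ _

end Abs

section Inv

variable {C : Type u} [SmallCategory C] {J : GrothendieckTopology C} {O : Sheaf J CommRingCat.{u}}

/-- the shift of the telescope. -/
noncomputable def σ (F : ModSite.Mod O) : (∐ fun _ : ℕ => F) ⟶ ∐ fun _ : ℕ => F :=
  Sigma.desc fun n => Sigma.ι (fun _ : ℕ => F) (n + 1)

lemma awayMap_σ (s : DerComp.GSec O) (F : ModSite.Mod O) :
    DerComp.awayMap s F ≫ σ F = σ F ≫ DerComp.awayMap s F := by
  apply Sigma.hom_ext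
  intro n
  simp [DerComp.awayMap, σ, Preadditive.sub_comp]

lemma smul_σ (s : DerComp.GSec O) (F : ModSite.Mod O) : s • σ F = 𝟙 _ - DerComp.awayMap s F := by
  apply Sigma.hom_ext
  intro n
  simp only [DerComp.awayMap, σ, Preadditive.comp_sub, Linear.comp_smul, Sigma.ι_desc, Category.comp_id]
  rw [DerComp.smul_def]
  abel

/-- the global section `s` acts invertibly on `F_s`. -/
theorem invt_locAway (s : DerComp.GSec O) (F : ModSite.Mod O) : Invt s (DerComp.locAway s F) := by
  let τ : DerComp.locAway s F ⟶ DerComp.locAway s F :=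
    cokernel.map (DerComp.awayMap s F) (DerComp.awayMap s F) (σ F) (σ F) (awayMap_σ s F)
  have h : s • τ = 𝟙 _ := by
    rw [← cancel_epi (cokernel.π (DerComp.awayMap s F)), Linear.comp_smul, cokernel.π_desc, ← Linear.smul_comp,
      smul_σ, Preadditive.sub_comp, cokernel.condition, sub_zero, Category.id_comp, Category.comp_id]
  refine ⟨τ, ?_, ?_⟩
  · rw [Linear.smul_comp, Category.id_comp, h]
  · rw [Linear.comp_smul, Category.comp_id, h]

/-- multiplication by a restricted global section commutes with extension by zero. -/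
theorem extZero_smulEnd (s : DerComp.GSec O) (U : C) (F : ModSite.Mod (O.over U)) :
    (ModSite.extZero O U).map (DerComp.smulEnd (DerComp.GSec.toOver s U) F) = DerComp.smulEnd s ((ModSite.extZero O U).obj F) := by
  apply ((ModSite.extZeroAdj O U).homEquiv _ _).injective
  rw [Adjunction.homEquiv_unit, Adjunction.homEquiv_unit]
  have h1 := (ModSite.extZeroAdj O U).unit.naturality (DerComp.smulEnd (DerComp.GSec.toOver s U) F)
  have h2 : (ModSite.restr O U).map (DerComp.smulEnd s ((ModSite.extZero O U).obj F)) =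
    DerComp.smulEnd (DerComp.GSec.toOver s U) ((ModSite.restr O U).obj ((ModSite.extZero O U).obj F)) := rfl
  rw [h2]
  exact h1.symm.trans (DerComp.smulEnd_comm _ _)

lemma ofSect_eq (s : DerComp.GSec O) (U : C) : DerComp.GSec.ofSect O U (s.1 U) = DerComp.GSec.toOver s U := by
  apply Subtype.ext
  funext V
  exact s.2 V.hom

theorem invt_extZero (s : DerComp.GSec O) (U : C) {Y : ModSite.Mod (O.over U)} (h : Invt (DerComp.GSec.toOver s U) Y) :
    Invt s ((ModSite.extZero O U).obj Y) := by
  have h1 : s • 𝟙 ((ModSite.extZero O U).obj Y) = (ModSite.extZero O U).map (DerComp.GSec.toOver s U • 𝟙 Y) := by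
    rw [DerComp.smul_def, DerComp.smul_def, Category.comp_id, Category.comp_id, extZero_smulEnd]
  unfold Invt at h ⊢
  rw [h1]
  infer_instance

theorem invt_inD (s : DerComp.GSec O) {Y : ModSite.Mod O} (h : Invt s Y) : Invt s (SiteCmp.inD O Y) := by
  have h1 : s • 𝟙 (SiteCmp.inD O Y) = (DerivedCategory.singleFunctor (ModSite.Mod O) 0).map (s • 𝟙 Y) := by
    rw [Functor.map_smul, CategoryTheory.Functor.map_id]
  unfold Invt at h ⊢
  rw [h1]
  infer_instance

end Inv

section Compl

variable {C : Type u} [SmallCategory C] {J : GrothendieckTopology C} {O : Sheaf J CommRingCat.{u}}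

theorem hasProduct (K : DerivedCategory (ModSite.Mod O)) : HasProduct fun _ : ℕ => K := by
  have := K578.Der.isGrothendieckAbelian O
  have := Groth.Agent.CohtopA.DerProd.hasLimitsOfShape_discrete (ModSite.Mod O) ℕ
  infer_instance

/-- `mulD` of a global section is scalar multiplication. -/
theorem mulD_toOver (s : DerComp.GSec O) (U : C) (F : ModSite.Mod (O.over U)) :
    mulD O U (DerComp.GSec.toOver s U) F = s • 𝟙 _ := by
  rw [mulD, extZero_smulEnd, show DerComp.smulEnd s ((ModSite.extZero O U).obj F) = s • 𝟙 _ by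
    rw [DerComp.smul_def, Category.comp_id], Functor.map_smul, CategoryTheory.Functor.map_id]

theorem cmpl_pre_iff (s : DerComp.GSec O) (U : C) (F : ModSite.Mod (O.over U)) (L : DerivedCategory (ModSite.Mod O)) :
    Cmpl (pre (mulD O U (DerComp.GSec.toOver s U) F) L) ↔ Cmp (SiteCmp.inD O ((ModSite.extZero O U).obj F) ⟶ L) s := by
  have h : pre (mulD O U (DerComp.GSec.toOver s U) F) L =
      DistribSMul.toAddMonoidHom (SiteCmp.inD O ((ModSite.extZero O U).obj F) ⟶ L) s := by
    ext x
    rw [pre_apply, mulD_toOver, Linear.smul_comp, Category.id_comp]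
    rfl
  unfold Cmp
  rw [h]

/-- **Local check**: `K` is complete with respect to the global section `s` if `Hom(j_{U!} O_U, K[n])` is, for all `U` in a
covering class. -/
theorem isCompl_of_covering (s : DerComp.GSec O) (B : C → Prop) (hB : K779.Gen.Covering J B)
    (K : DerivedCategory (ModSite.Mod O))
    (h : ∀ U, B U → ∀ n : ℤ, Cmp (SiteCmp.inD O (ModSite.freeOn O U) ⟶ K⟦n⟧) s) : IsCompl s K := by
  have := hasProduct (O := O)
  obtain ⟨L, a, c, ht⟩ := exists_tele s K
  have key : IsZero L :=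
    K779.Gen.isZero_of_subsingleton O B hB L fun U hU n => tele_subsingleton ht (h U hU) n
  have : IsIso (dm s K) := (Triangle.isZero₁_iff_isIso₂ _ ht).1 key
  exact isCompl_of_isIso_dm s

/-- morphisms from `j_{U!} F_s` to an `s`-complete object vanish. -/
theorem subsingleton_of_isCompl {s : DerComp.GSec O} {K : DerivedCategory (ModSite.Mod O)} (h : IsCompl s K) (U : C)
    (F : ModSite.Mod (O.over U)) (n : ℤ) :
    Subsingleton (SiteCmp.inD O ((ModSite.extZero O U).obj (DerComp.locAway (DerComp.GSec.toOver s U) F)) ⟶ K⟦n⟧) := by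
  refine ⟨fun x y => ?_⟩
  rw [← sub_eq_zero]
  exact Invt.eq_zero (invt_inD s (invt_extZero s U (invt_locAway _ F))) (h.shift n) _

theorem subsingleton_of_isCompl' {s : DerComp.GSec O} {K : DerivedCategory (ModSite.Mod O)} (h : IsCompl s K)
    (F : ModSite.Mod O) (n : ℤ) : Subsingleton (SiteCmp.inD O (DerComp.locAway s F) ⟶ K⟦n⟧) := by
  refine ⟨fun x y => ?_⟩
  rw [← sub_eq_zero]
  exact Invt.eq_zero (invt_inD s (invt_locAway _ F)) (h.shift n) _

/-- **Completeness with respect to a global section.** -/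
theorem isCompl_iff (s : DerComp.GSec O) (K : DerivedCategory (ModSite.Mod O)) :
    IsCompl s K ↔ ∀ (U : C) (n : ℤ),
      Subsingleton (SiteCmp.inD O ((ModSite.extZero O U).obj (DerComp.awayOver O U (s.1 U))) ⟶ K⟦n⟧) := by
  constructor
  · intro h U n
    have := subsingleton_of_isCompl h U (ModSite.unit (O.over U)) n
    rwa [← ofSect_eq] at this
  · intro h
    refine isCompl_of_covering s (fun _ => True) K779.Gen.covering_true K fun U _ n => ?_
    have h1 := (subsingleton_iff_cmpl O U (DerComp.GSec.ofSect O U (s.1 U)) (ModSite.unit (O.over U)) K).1 (h U) n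
    rw [ofSect_eq, cmpl_pre_iff] at h1
    exact h1

end Compl

end K780.Glob
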