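import Groth.Agent.DerComp.K779.Sec
import Groth.Agent.DerComp.K780.TeleTri
import Groth.Agent.S3087
import Groth.Agent.SiteCmp.K578.Der
import Groth.Agent.CohtopB.DCoprod
import Groth.Agent.Cohder.Telescope

/-!
# Morphisms out of `j_{U!} O_{U,f}` in the derived category of a ringed site

`0 → ⊕ O_U → ⊕ O_U → O_{U,f} → 0` is exact, extension by zero is exact and preserves coproducts; hence
`Hom(j_{U!} O_{U,f}, K[n]) = 0` for all `n` iff `Hom(j_{U!} O_U, K[n])` is derived complete (elementwise) with respect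
to multiplication by `f`, for all `n`.
-/

set_option autoImplicit false

universe v u w

open CategoryTheory CategoryTheory.Limits Opposite Pretriangulated

attribute [local instance] HasDerivedCategory.standard

namespace K780.Away

open K780.ShiftAlg K780.Tele

section Abs

variable {T : Type u} [Category.{v} T] [Preadditive T] [HasZeroObject T] [HasShift T ℤ]
  [∀ n : ℤ, (shiftFunctor T n).Additive] [Pretriangulated T]

section

variable {A B Z : T} {u : A ⟶ B} {v : B ⟶ Z} {w : Z ⟶ A⟦(1 : ℤ)⟧}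

lemma yo₂ (h : Triangle.mk u v w ∈ distTriang T) {X : T} (φ : B ⟶ X) (hφ : u ≫ φ = 0) :
    ∃ ψ : Z ⟶ X, φ = v ≫ ψ := Triangle.yoneda_exact₂ _ h φ hφ

lemma yo₃ (h : Triangle.mk u v w ∈ distTriang T) {X : T} (φ : Z ⟶ X) (hφ : v ≫ φ = 0) :
    ∃ ψ : A⟦(1 : ℤ)⟧ ⟶ X, φ = w ≫ ψ := Triangle.yoneda_exact₃ _ h φ hφ

lemma yo₁ (h : Triangle.mk u v w ∈ distTriang T) {X : T} (φ : A⟦(1 : ℤ)⟧ ⟶ X) (hφ : w ≫ φ = 0) :
    ∃ ψ : B⟦(1 : ℤ)⟧ ⟶ X, φ = u⟦(1 : ℤ)⟧' ≫ ψ := by
  obtain ⟨ψ, hψ⟩ : ∃ ψ : B⟦(1 : ℤ)⟧ ⟶ X, φ = (-(u⟦(1 : ℤ)⟧')) ≫ ψ :=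
    Triangle.yoneda_exact₃ _ (rot_of_distTriang _ h) φ hφ
  refine ⟨-ψ, ?_⟩
  rw [hψ, Preadditive.neg_comp, Preadditive.comp_neg]

end

/-- In a triangle `Q₁ → Q₂ → Z → Q₁[1]`, all `Hom(Z, K[n])` vanish iff `Hom(Q₂, K[n]) → Hom(Q₁, K[n])` is bijective for
all `n`. -/
theorem subsingleton_iff_bijective {Q₁ Q₂ Z : T} {a : Q₁ ⟶ Q₂} {b : Q₂ ⟶ Z} {c : Z ⟶ Q₁⟦(1 : ℤ)⟧}
    (ht : Triangle.mk a b c ∈ distTriang T) (K : T) :
    (∀ n : ℤ, Subsingleton (Z ⟶ K⟦n⟧)) ↔
      ∀ n : ℤ, Function.Bijective (fun x : Q₂ ⟶ K⟦n⟧ => a ≫ x) := by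
  constructor
  · intro h n
    constructor
    · intro x y hxy
      dsimp only at hxy
      have h1 : a ≫ (x - y) = 0 := by rw [Preadditive.comp_sub, hxy, sub_self]
      obtain ⟨z, hz⟩ := yo₂ ht (x - y) h1
      have hz0 : z = 0 := (h n).elim _ _
      rw [hz0, comp_zero, sub_eq_zero] at hz
      exact hz
    · intro x
      have h0 : c ≫ x⟦(1 : ℤ)⟧' = 0 := by
        have e : (K⟦n⟧)⟦(1 : ℤ)⟧ ≅ K⟦n + 1⟧ := ((shiftFunctorAdd T n 1).app K).symm
        rw [← cancel_mono e.hom, zero_comp]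
        exact (h (n + 1)).elim _ _
      obtain ⟨w, hw⟩ := yo₁ ht (x⟦(1 : ℤ)⟧') h0
      obtain ⟨w', rfl⟩ := (shiftFunctor T (1 : ℤ)).map_surjective w
      refine ⟨w', ?_⟩
      dsimp only
      apply (shiftFunctor T (1 : ℤ)).map_injective
      rw [hw, Functor.map_comp]
  · intro h n
    refine ⟨fun y y' => ?_⟩
    rw [← sub_eq_zero]
    generalize y - y' = z
    have h1 : a ≫ (b ≫ z) = 0 := by
      rw [← Category.assoc, z₁₂ ht, zero_comp]
    have h2 : b ≫ z = 0 := (h n).1 (by dsimp only; rw [h1, comp_zero])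
    obtain ⟨w, hw⟩ := yo₃ ht z h2
    -- `w : Q₁⟦1⟧ → K⟦n⟧`
    let e : (K⟦n - 1⟧)⟦(1 : ℤ)⟧ ≅ K⟦n⟧ := ((shiftFunctorAdd' T (n - 1) 1 n (by omega)).app K).symm
    obtain ⟨w', hw'⟩ := (shiftFunctor T (1 : ℤ)).map_surjective (w ≫ e.inv)
    obtain ⟨v, hv⟩ := (h (n - 1)).2 w'
    have h3 : w = (a⟦(1 : ℤ)⟧') ≫ (v⟦(1 : ℤ)⟧' ≫ e.hom) := by
      rw [← Category.assoc, ← Functor.map_comp, show a ≫ v = w' from hv, hw', Category.assoc, Iso.inv_hom_id,
        Category.comp_id]
    rw [hw, h3, ← Category.assoc, z₃₁ ht, zero_comp]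

end Abs

section Coprod

variable {T : Type u} [Category.{v} T] [Preadditive T]

/-- Precomposition with an endomorphism, as an additive endomorphism. -/
def pre {P : T} (f : P ⟶ P) (L : T) : (P ⟶ L) →+ (P ⟶ L) where
  toFun x := f ≫ x
  map_zero' := comp_zero
  map_add' _ _ := Preadditive.comp_add _ _ _ _ _ _

@[simp] lemma pre_apply {P : T} (f : P ⟶ P) (L : T) (x : P ⟶ L) : pre f L x = f ≫ x := rfl

/-- If `Q` is the countable coproduct of `P` and `a : Q → Q` is `1 - f · shift` then `a ≫ -` is bijective on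
`Hom(Q, L)` iff `Hom(P, L)` is complete with respect to `f ≫ -`. -/
theorem bijective_iff_cmpl {P Q : T} {ι : ℕ → (P ⟶ Q)} (hι : IsColimit (Cofan.mk Q ι)) (f : P ⟶ P) (a : Q ⟶ Q)
    (ha : ∀ k, ι k ≫ a = ι k - f ≫ ι (k + 1)) (L : T) :
    Function.Bijective (fun x : Q ⟶ L => a ≫ x) ↔ Cmpl (pre f L) := by
  let e : (Q ⟶ L) ≃ (ℕ → (P ⟶ L)) :=
    { toFun := fun x k => ι k ≫ x
      invFun := fun y => Cofan.IsColimit.desc hι y
      left_inv := fun x => by
        refine Cofan.IsColimit.hom_ext hι _ _ fun k => ?_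
        exact Cofan.IsColimit.fac hι _ k
      right_inv := fun y => by
        funext k
        exact Cofan.IsColimit.fac hι _ k }
  have h : ∀ x : Q ⟶ L, e (a ≫ x) = sh (pre f L) (e x) := fun x => by
    funext k
    change ι k ≫ a ≫ x = ι k ≫ x - f ≫ ι (k + 1) ≫ x
    rw [← Category.assoc, ha, Preadditive.sub_comp, Category.assoc]
  have h' : (sh (pre f L) : (ℕ → (P ⟶ L)) → (ℕ → (P ⟶ L))) = e ∘ (fun x : Q ⟶ L => a ≫ x) ∘ e.symm := by
    funext y
    simp only [Function.comp_apply]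
    rw [h, Equiv.apply_symm_apply]
  unfold Cmpl
  rw [h']
  constructor
  · intro hb
    exact e.bijective.comp (hb.comp e.symm.bijective)
  · intro hb
    have := (Function.Bijective.of_comp_iff' e.bijective _).1 hb
    exact (Function.Bijective.of_comp_iff _ e.symm.bijective).1 this

end Coprod

section Exact

/-- Sequential colimits and countable coproducts are exact in a Grothendieck abelian category. -/
theorem exact_nat (A : Type*) [Category.{u} A] [Abelian A] [IsGrothendieckAbelian.{u} A] :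
    HasExactColimitsOfShape ℕ A :=
  have h : AB5OfSize.{u, u} A := IsGrothendieckAbelian.ab5OfSize
  have h2 : AB5OfSize.{0, 0} A := AB5OfSize_of_univLE.{0, 0, u, u} _
  h2.ofShape ℕ

theorem exact_discrete_nat (A : Type*) [Category.{u} A] [Abelian A] [IsGrothendieckAbelian.{u} A] :
    HasExactColimitsOfShape (Discrete ℕ) A :=
  have _h : AB4OfSize.{u} A := inferInstance
  have := _h.ofShape (ULift.{u} ℕ)
  HasExactColimitsOfShape.of_domain_equivalence _
    (Discrete.equivalence Equiv.ulift : Discrete (ULift.{u} ℕ) ≌ Discrete ℕ)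

end Exact

section Site

open Groth.Agent.Cohder

variable {C : Type u} [SmallCategory C] {J : GrothendieckTopology C} (O : Sheaf J CommRingCat.{u})

variable {O} in
lemma awayMap_eq (s : DerComp.GSec O) (F : ModSite.Mod O) :
    DerComp.awayMap s F = 𝟙 (∐ fun _ : ℕ => F) - DerLim.shiftMap (fun _ : ℕ => F) (fun _ => DerComp.smulEnd s F) := by
  apply Sigma.hom_ext
  intro n
  simp [DerComp.awayMap, DerLim.shiftMap, Preadditive.comp_sub]

variable {O} in
theorem mono_awayMap (s : DerComp.GSec O) (F : ModSite.Mod O) : Mono (DerComp.awayMap s F) := by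
  have := K578.Der.isGrothendieckAbelian O
  have := exact_nat (ModSite.Mod O)
  rw [awayMap_eq]
  exact Telescope.mono_id_sub_shiftMap _ _

/-- Extension by zero is exact. -/
theorem preservesFiniteLimits_extZero (U : C) : PreservesFiniteLimits (ModSite.extZero O U) :=
  ((Groth.Agent.S3087.result J U (ModSite.ringSh O)).2 (ModSite.extZero O U) (ModSite.extZeroAdj O U)).1

theorem preservesFiniteColimits_extZero (U : C) : PreservesFiniteColimits (ModSite.extZero O U) :=
  ((Groth.Agent.S3087.result J U (ModSite.ringSh O)).2 (ModSite.extZero O U) (ModSite.extZeroAdj O U)).2.1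

/-- The short exact sequence `0 → ⊕ F → ⊕ F → F_s → 0`. -/
noncomputable abbrev sc (s : DerComp.GSec O) (F : ModSite.Mod O) : ShortComplex (ModSite.Mod O) :=
  ShortComplex.mk (DerComp.awayMap s F) (cokernel.π (DerComp.awayMap s F)) (cokernel.condition _)

theorem shortExact_sc (s : DerComp.GSec O) (F : ModSite.Mod O) : (sc O s F).ShortExact := by
  have := mono_awayMap s F
  exact { exact := ShortComplex.exact_of_g_is_cokernel _ (cokernelIsCokernel _)
          mono_f := this
          epi_g := inferInstanceAs (Epi (cokernel.π _)) }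

theorem shortExact_map (U : C) (s : DerComp.GSec (O.over U)) (F : ModSite.Mod (O.over U)) :
    ((sc (O.over U) s F).map (ModSite.extZero O U)).ShortExact := by
  have := preservesFiniteLimits_extZero O U
  have := preservesFiniteColimits_extZero O U
  exact (shortExact_sc (O.over U) s F).map_of_exact _

/-- `mulF s F = j_! (s on F)`, as an endomorphism of `j_! F` in the derived category. -/
noncomputable abbrev mulD (U : C) (s : DerComp.GSec (O.over U)) (F : ModSite.Mod (O.over U)) :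
    SiteCmp.inD O ((ModSite.extZero O U).obj F) ⟶ SiteCmp.inD O ((ModSite.extZero O U).obj F) :=
  (DerivedCategory.singleFunctor (ModSite.Mod O) 0).map ((ModSite.extZero O U).map (DerComp.smulEnd s F))

/-- **Key criterion**: all morphisms `j_! F_s → K[n]` vanish iff `Hom(j_! F, K[n])` is complete with respect to `s`
(acting through `F`), for all `n`. -/
theorem subsingleton_iff_cmpl (U : C) (s : DerComp.GSec (O.over U)) (F : ModSite.Mod (O.over U))
    (K : DerivedCategory (ModSite.Mod O)) :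
    (∀ n : ℤ, Subsingleton (SiteCmp.inD O ((ModSite.extZero O U).obj (DerComp.locAway s F)) ⟶ K⟦n⟧)) ↔
      ∀ n : ℤ, Cmpl (pre (mulD O U s F) (K⟦n⟧)) := by
  have hG := K578.Der.isGrothendieckAbelian O
  have h1 := exact_discrete_nat (ModSite.Mod O)
  have ht := (shortExact_map O U s F).singleTriangle_distinguished
  refine (subsingleton_iff_bijective ht K).trans (forall_congr' fun n => ?_)
  have h2 : PreservesColimitsOfShape (Discrete ℕ) (DerivedCategory.singleFunctor (ModSite.Mod O) 0) :=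
    Groth.Agent.CohtopB.DCoprod.preservesColimitsOfShape_singleFunctor 0
  have h3 : PreservesColimitsOfShape (Discrete ℕ) (ModSite.extZero O U) :=
    (ModSite.extZeroAdj O U).leftAdjoint_preservesColimits.preservesColimitsOfShape
  have h4 : PreservesColimitsOfShape (Discrete ℕ)
      (ModSite.extZero O U ⋙ DerivedCategory.singleFunctor (ModSite.Mod O) 0) := inferInstance
  have hc := (isColimitMapCoconeCofanMkEquiv _ _ _)
    (isColimitOfPreserves (ModSite.extZero O U ⋙ DerivedCategory.singleFunctor (ModSite.Mod O) 0)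
      (coproductIsCoproduct (fun _ : ℕ => F)))
  refine bijective_iff_cmpl hc (mulD O U s F) _ (fun k => ?_) (K⟦n⟧)
  change (ModSite.extZero O U ⋙ DerivedCategory.singleFunctor (ModSite.Mod O) 0).map (Sigma.ι (fun _ : ℕ => F) k) ≫
    (ModSite.extZero O U ⋙ DerivedCategory.singleFunctor (ModSite.Mod O) 0).map (DerComp.awayMap s F) =
    (ModSite.extZero O U ⋙ DerivedCategory.singleFunctor (ModSite.Mod O) 0).map (Sigma.ι (fun _ : ℕ => F) k) -
    (ModSite.extZero O U ⋙ DerivedCategory.singleFunctor (ModSite.Mod O) 0).map (DerComp.smulEnd s F) ≫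
      (ModSite.extZero O U ⋙ DerivedCategory.singleFunctor (ModSite.Mod O) 0).map (Sigma.ι (fun _ : ℕ => F) (k + 1))
  rw [← Functor.map_comp, ← Functor.map_comp, ← Functor.map_sub]
  congr 1
  simp [DerComp.awayMap]

end Site

end K780.Away
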