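import Groth.Agent.DerComp.K780.AffFin
import Groth.Agent.DerComp.K779.Trans
import Groth.Agent.PerfA.QCohD

/-!
# Cohomology of coherent modules on affine opens, as Hom groups on the localised site
-/

set_option autoImplicit false
set_option linter.unusedSectionVars false

universe u

open CategoryTheory CategoryTheory.Limits Opposite Pretriangulated AlgebraicGeometry TopologicalSpace

attribute [local instance] HasDerivedCategory.standard

namespace K780.AffCoh

open K780.ShiftAlg K780.Tele K780.Away K780.Glob K780.Res K780.AffFin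

section Sect

variable {C : Type u} [SmallCategory C] {J : GrothendieckTopology C} (O : Sheaf J CommRingCat.{u}) (U : C)

/-- evaluation of global sections of `O_U` at the final object. -/
noncomputable def evO : DerComp.GSec (O.over U) →+* O.obj.obj (op U) :=
  (Pi.evalRingHom (fun V : Over U => O.obj.obj (op V.left)) (Over.mk (𝟙 U))).comp (DerComp.GSec (O.over U)).subtype

lemma evO_ofSect (f : O.obj.obj (op U)) : evO O U (DerComp.GSec.ofSect O U f) = f := by
  change (O.obj.map (𝟙 U : U ⟶ U).op).hom f = f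
  rw [op_id, O.obj.map_id]
  rfl

lemma ofSect_evO (s : DerComp.GSec (O.over U)) : DerComp.GSec.ofSect O U (evO O U s) = s := by
  apply Subtype.ext
  funext V
  exact s.2 (Over.homMk V.hom : V ⟶ Over.mk (𝟙 U))

theorem evO_bijective : Function.Bijective (evO O U) :=
  ⟨fun s t h => by rw [← ofSect_evO O U s, ← ofSect_evO O U t, h], fun f => ⟨_, evO_ofSect O U f⟩⟩

/-- `GSec (O.over U) = O(U)`. -/
noncomputable def evOEquiv : DerComp.GSec (O.over U) ≃+* O.obj.obj (op U) := RingEquiv.ofBijective (evO O U) (evO_bijective O U)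

/-- `Hom(unit, F|_U[0]) = F(U)`. -/
noncomputable def secD (F : ModSite.Mod O) :
    (SiteCmp.inD (O.over U) (ModSite.unit (O.over U)) ⟶ ((resD O U).obj (SiteCmp.inD O F))⟦(0 : ℤ)⟧) ≃ₗ[DerComp.GSec (O.over U)]
      (ModSite.unit (O.over U) ⟶ (ModSite.restr O U).obj F) :=
  (postI ((shiftFunctorZero (DerivedCategory (ModSite.Mod (O.over U))) ℤ).app _) _).trans
    ((postI (((ModSite.restr O U).mapDerivedCategorySingleFunctor 0).app F) _).trans
      { toFun := (DerivedCategory.singleFunctor (ModSite.Mod (O.over U)) 0).preimage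
        invFun := (DerivedCategory.singleFunctor (ModSite.Mod (O.over U)) 0).map
        map_add' := fun x y => by
          apply (DerivedCategory.singleFunctor (ModSite.Mod (O.over U)) 0).map_injective
          simp
        map_smul' := fun r x => by
          apply (DerivedCategory.singleFunctor (ModSite.Mod (O.over U)) 0).map_injective
          simp
        left_inv := fun x => by simp
        right_inv := fun x => by simp })

end Sect

variable {X : Scheme.{u}}

open Groth.Agent.PerfA.ExtZero Groth.Agent.PerfA.Hyp1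

/-- Morphisms out of the two models of `j_! O_U`. -/
noncomputable def eqv (U : X.Opens) (F : X.Modules) :
    (OU U ⟶ F) ≃ ((show X.Modules from ModSite.freeOn X.sheaf U) ⟶ F) :=
  (homEquiv U F).toEquiv.trans (K779.Sec.sec X.sheaf U F).symm.toEquiv

lemma eqv_comp (U : X.Opens) {F G : X.Modules} (φ : OU U ⟶ F) (ψ : F ⟶ G) :
    eqv U G (φ ≫ ψ) = eqv U F φ ≫ ψ := by
  apply (K779.Sec.sec X.sheaf U G).injective
  refine Eq.trans ?_ (K779.Sec.sec_comp X.sheaf U (eqv U F φ) ψ).symm
  change (K779.Sec.sec X.sheaf U G) ((K779.Sec.sec X.sheaf U G).symm (homEquiv U G (φ ≫ ψ))) =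
    (ψ.val.app (op U)).hom ((K779.Sec.sec X.sheaf U F) ((K779.Sec.sec X.sheaf U F).symm (homEquiv U F φ)))
  rw [AddEquiv.apply_symm_apply, AddEquiv.apply_symm_apply, homEquiv_comp]
  rfl

/-- The two models of `j_! O_U` are isomorphic. -/
noncomputable def freeIsoOU (U : X.Opens) : (show X.Modules from ModSite.freeOn X.sheaf U) ≅ OU U :=
  K779.Trans.isoOfEquiv (eqv U) (fun φ ψ => eqv_comp U φ ψ)

theorem isZero_HD_inD (F : X.Modules) {n : ℤ} (hn : n ≠ 0) : IsZero (DCoh.HD (DCoh.inD X F) n) := by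
  rcases lt_or_gt_of_ne hn with h | h
  · exact DerivedCategory.isZero_of_isGE _ 0 n h
  · exact DerivedCategory.isZero_of_isLE _ 0 n h

theorem eq_zero_P (F : X.Modules) (hF : Coh.IsQCoh F) {U : X.Opens} (hU : IsAffineOpen U) {n : ℤ} (hn : n ≠ 0)
    (y : P n U ⟶ DCoh.inD X F) : y = 0 := by
  rw [Groth.Agent.PerfA.HypAffine.eq_zero_iff_toHD _ (Groth.Agent.PerfA.QCohD.isQCohD_inD F hF) U hU n]
  have h : Groth.Agent.PerfA.Hyp0.toH y = 0 := (isZero_HD_inD F hn).eq_of_tgt _ _
  rw [toHD, h, map_zero]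

/-- Vanishing of the higher cohomology of quasi-coherent modules on affine opens. -/
theorem subsingleton_free (F : X.Modules) (hF : Coh.IsQCoh F) {U : X.Opens} (hU : IsAffineOpen U) {n : ℤ}
    (hn : n ≠ 0) :
    Subsingleton (SiteCmp.inD X.sheaf (ModSite.freeOn X.sheaf U) ⟶ (SiteCmp.inD X.sheaf F)⟦n⟧) := by
  have key : ∀ x : DCoh.inD X (show X.Modules from ModSite.freeOn X.sheaf U) ⟶ (DCoh.inD X F)⟦n⟧, x = 0 := by
    intro x
    let e : (P n U)⟦n⟧ ≅ DCoh.inD X (show X.Modules from ModSite.freeOn X.sheaf U) :=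
      ((DerivedCategory.singleFunctors X.Modules).shiftIso n 0 n (by simp)).app (OU U) ≪≫
        (DerivedCategory.singleFunctor X.Modules 0).mapIso (freeIsoOU U).symm
    obtain ⟨y, hy⟩ := (shiftFunctor (DCoh.D X) n).map_surjective (e.hom ≫ x)
    rw [eq_zero_P F hF hU hn y, Functor.map_zero] at hy
    rw [← cancel_epi e.hom, ← hy, comp_zero]
  exact ⟨fun x y => (key x).trans (key y).symm⟩

/-- `H^n(U, F) = 0` for `n ≠ 0`, on the localised site. -/
theorem subsingleton_res (F : X.Modules) (hF : Coh.IsQCoh F) {U : X.Opens} (hU : IsAffineOpen U) {n : ℤ}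
    (hn : n ≠ 0) :
    Subsingleton (SiteCmp.inD (X.sheaf.over U) (ModSite.unit (X.sheaf.over U)) ⟶
      ((resD X.sheaf U).obj (SiteCmp.inD X.sheaf F))⟦n⟧) :=
  have := subsingleton_free F hF hU hn
  (homRes X.sheaf U (ModSite.unit (X.sheaf.over U)) (SiteCmp.inD X.sheaf F) n).symm.toEquiv.subsingleton

/-- evaluation, typed over `Γ(X, U)`. -/
noncomputable def evU (U : X.Opens) : DerComp.GSec (X.sheaf.over U) →+* Γ(X, U) := evO X.sheaf U

theorem evU_bijective (U : X.Opens) : Function.Bijective (evU U) := evO_bijective X.sheaf U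

/-- `GSec (O.over U) = Γ(X, U)`. -/
noncomputable def evUEquiv (U : X.Opens) : DerComp.GSec (X.sheaf.over U) ≃+* Γ(X, U) :=
  RingEquiv.ofBijective (evU U) (evU_bijective U)

theorem isNoetherianRing_gsec_over [IsLocallyNoetherian X] {U : X.Opens} (hU : IsAffineOpen U) :
    IsNoetherianRing (DerComp.GSec (X.sheaf.over U)) := by
  have : IsNoetherianRing Γ(X, U) := IsLocallyNoetherian.component_noetherian ⟨U, hU⟩
  exact isNoetherianRing_of_ringEquiv _ (evUEquiv U).symm

/-- `H^0(U, F)` is finite for `F` coherent and `U` affine. -/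
theorem finite_res {F : X.Modules} (hF : Coh.IsCoh F) {U : X.Opens} (hU : IsAffineOpen U) :
    Module.Finite (DerComp.GSec (X.sheaf.over U))
    (SiteCmp.inD (X.sheaf.over U) (ModSite.unit (X.sheaf.over U)) ⟶
      ((resD X.sheaf U).obj (SiteCmp.inD X.sheaf F))⟦(0 : ℤ)⟧) := by
  have hf : Module.Finite Γ(X, U) Γ(F, U) := Groth.Agent.Ega3B.DevQC.finite_sections hF hU
  let _ : Module (DerComp.GSec (X.sheaf.over U)) Γ(F, U) := Module.compHom _ (evU U)
  let e := K779.Sec.secOver X.sheaf U ((ModSite.restr X.sheaf U).obj F)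
  let f : (ModSite.unit (X.sheaf.over U) ⟶ (ModSite.restr X.sheaf U).obj F) ≃ₗ[DerComp.GSec (X.sheaf.over U)] Γ(F, U) :=
    { toFun := fun x => e x
      invFun := fun y => e.symm y
      left_inv := fun x => e.symm_apply_apply x
      right_inv := fun y => e.apply_symm_apply y
      map_add' := fun x y => map_add e x y
      map_smul' := fun r x => K779.Sec.secOver_smul X.sheaf U r x }
  let _ : Algebra (DerComp.GSec (X.sheaf.over U)) Γ(X, U) := (evU U).toAlgebra
  have h0 : Module.Finite (DerComp.GSec (X.sheaf.over U)) Γ(X, U) :=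
    Module.Finite.of_surjective (Algebra.linearMap (DerComp.GSec (X.sheaf.over U)) Γ(X, U)) (evU_bijective U).2
  have _ : IsScalarTower (DerComp.GSec (X.sheaf.over U)) Γ(X, U) Γ(F, U) :=
    ⟨fun a r m => mul_smul (evU U a) r m⟩
  have h1 : Module.Finite (DerComp.GSec (X.sheaf.over U)) Γ(F, U) :=
    Module.Finite.trans Γ(X, U) Γ(F, U)
  exact Module.Finite.equiv ((secD X.sheaf U F).trans f).symm

/-- `H^n(U, F)` is Noetherian-like. -/
theorem nl_res [IsLocallyNoetherian X] {F : X.Modules} (hF : Coh.IsCoh F) {U : X.Opens} (hU : IsAffineOpen U) (n : ℤ) :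
    NL (DerComp.GSec (X.sheaf.over U)) (SiteCmp.inD (X.sheaf.over U) (ModSite.unit (X.sheaf.over U)) ⟶
      ((resD X.sheaf U).obj (SiteCmp.inD X.sheaf F))⟦n⟧) := by
  have := isNoetherianRing_gsec_over (X := X) hU
  by_cases hn : n = 0
  · subst hn
    have := finite_res hF hU
    exact NL.of_finite
  · have := subsingleton_res F hF.1 hU hn
    exact NL.of_finite

end K780.AffCoh
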