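import Groth.Agent.DerComp.K780.GenBy
import Groth.Agent.Ega3B.DevQC
import Groth.Agent.S1039
import Groth.Agent.S7240
import Groth.Agent.PerfA.HypAffine
import Groth.Agent.Cohder.PCTri2

/-!
# Finiteness of `H^p(X, K)` for `K` pseudo-coherent on an affine Noetherian scheme
-/

set_option autoImplicit false
set_option linter.unusedSectionVars false

universe u

open CategoryTheory CategoryTheory.Limits Opposite Pretriangulated AlgebraicGeometry TopologicalSpace

attribute [local instance] HasDerivedCategory.standard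

namespace K780.AffFin

open K780.ShiftAlg K780.Tele K780.Away K780.Glob K780.Res

section GSec

variable (X : Scheme.{u})

/-- evaluation of global sections of `X.sheaf` on `X`. -/
noncomputable def ev : DerComp.GSec X.sheaf →+* Γ(X, ⊤) :=
  (Pi.evalRingHom (fun U : X.Opens => Γ(X, U)) ⊤).comp (DerComp.GSec X.sheaf).subtype

theorem ev_bijective : Function.Bijective (ev X) := by
  constructor
  · intro s t h
    apply Subtype.ext
    funext U
    have h1 := s.2 (homOfLE (le_top : U ≤ ⊤))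
    have h2 := t.2 (homOfLE (le_top : U ≤ ⊤))
    rw [← h1, ← h2]
    exact congrArg _ h
  · intro f
    refine ⟨⟨fun U => (X.presheaf.map (homOfLE (le_top : U ≤ ⊤)).op).hom f, fun U V g => ?_⟩, ?_⟩
    · change (X.presheaf.map g.op).hom ((X.presheaf.map (homOfLE (le_top : U ≤ ⊤)).op).hom f) = _
      rw [← CommRingCat.comp_apply, ← Functor.map_comp]
      rfl
    · change (X.presheaf.map (𝟙 _)).hom f = f
      rw [CategoryTheory.Functor.map_id]
      rfl

/-- `GSec X.sheaf = Γ(X, O_X)`. -/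
noncomputable def evEquiv : DerComp.GSec X.sheaf ≃+* Γ(X, ⊤) := RingEquiv.ofBijective (ev X) (ev_bijective X)

theorem isNoetherianRing_gsec [IsAffine X] [IsNoetherian X] : IsNoetherianRing (DerComp.GSec X.sheaf) := by
  have : IsNoetherianRing Γ(X, ⊤) := IsLocallyNoetherian.component_noetherian ⟨⊤, isAffineOpen_top X⟩
  exact isNoetherianRing_of_ringEquiv _ (evEquiv X).symm

end GSec

section Fin

variable {X : Scheme.{u}}

open Groth.Agent.PerfA.Hyp0

theorem isQCohD_of_pc {K : DCoh.D X} (hK : ∀ m : ℤ, DCoh.IsPseudoCoherentD m K) : DCoh.IsQCohD K := fun i =>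
  (Groth.Agent.S7240.result (i - 1) K (hK (i - 1))).1 i (by omega)

/-- a complex of modules on the site of opens, seen on the scheme. -/
noncomputable abbrev cD (K : DerivedCategory (ModSite.Mod X.sheaf)) : DCoh.D X := K

/-- a morphism from the structure sheaf, seen on the scheme. -/
noncomputable abbrev cH {K : DerivedCategory (ModSite.Mod X.sheaf)}
    (φ : SiteCmp.inD X.sheaf (ModSite.unit X.sheaf) ⟶ K) :
    (DerivedCategory.singleFunctor X.Modules 0).obj (Coh.structureModule X) ⟶ cD K := φ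

/-- The map `Hom(O_X, K) → Γ(X, H^0(K))`. -/
noncomputable def secH (K : DerivedCategory (ModSite.Mod X.sheaf))
    (φ : SiteCmp.inD X.sheaf (ModSite.unit X.sheaf) ⟶ K) : Γ(DCoh.HD (cD K) 0, ⊤) :=
  Groth.Agent.Dcoh.Restrict.unitEquiv (DCoh.HD (cD K) 0) (toH (m := 0) (cH φ))

theorem secH_add (K : DerivedCategory (ModSite.Mod X.sheaf))
    (φ ψ : SiteCmp.inD X.sheaf (ModSite.unit X.sheaf) ⟶ K) : secH K (φ + ψ) = secH K φ + secH K ψ := by
  have h := toH_add (cH φ) (cH ψ)
  refine (congrArg (Groth.Agent.Dcoh.Restrict.unitEquiv (DCoh.HD (cD K) 0)) h).trans ?_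
  exact map_add _ _ _

theorem secH_smul (K : DerivedCategory (ModSite.Mod X.sheaf)) (s : DerComp.GSec X.sheaf)
    (φ : SiteCmp.inD X.sheaf (ModSite.unit X.sheaf) ⟶ K) : secH K (s • φ) = ev X s • secH K φ := by
  have h1 : s • φ = (DerivedCategory.singleFunctor (ModSite.Mod X.sheaf) 0).map
      (DerComp.smulEnd s (ModSite.unit X.sheaf)) ≫ φ := by
    have h2 : s • 𝟙 (SiteCmp.inD X.sheaf (ModSite.unit X.sheaf)) =
        (DerivedCategory.singleFunctor (ModSite.Mod X.sheaf) 0).map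
      (DerComp.smulEnd s (ModSite.unit X.sheaf)) := by
      rw [← CategoryTheory.Functor.map_id, ← Functor.map_smul, DerComp.smul_def, Category.comp_id]
    rw [← h2, Linear.smul_comp, Category.id_comp]
  rw [h1]
  have h3 := toH_map_comp (m := 0) (K := cD K) (G' := Coh.structureModule X) (G := Coh.structureModule X)
    (DerComp.smulEnd s (ModSite.unit X.sheaf)) (cH φ)
  refine (congrArg (Groth.Agent.Dcoh.Restrict.unitEquiv (DCoh.HD (cD K) 0)) h3).trans ?_
  have h4 : secH K φ = Groth.Agent.Dcoh.Restrict.unitEquiv (DCoh.HD (cD K) 0) (toH (m := 0) (cH φ)) := rfl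
  rw [h4]
  generalize toH (m := 0) (cH φ) = θ
  have h5 := DerComp.smulEnd_comm (O := X.sheaf) s (F := ModSite.unit X.sheaf) (G := DCoh.HD (cD K) 0) θ
  refine (congrArg (Groth.Agent.Dcoh.Restrict.unitEquiv (DCoh.HD (cD K) 0)) h5).trans ?_
  exact Groth.Agent.Dcoh.Restrict.unitEquiv_comp θ (DerComp.smulEnd (O := X.sheaf) s (DCoh.HD (cD K) 0))

theorem finite_hom [IsAffine X] [IsNoetherian X] {K : DerivedCategory (ModSite.Mod X.sheaf)}
    (hK : ∀ m : ℤ, DCoh.IsPseudoCoherentD (X := X) m K) :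
    Module.Finite (DerComp.GSec X.sheaf) (SiteCmp.inD X.sheaf (ModSite.unit X.sheaf) ⟶ K) := by
  have hq : DCoh.IsQCohD (cD K) := isQCohD_of_pc hK
  have hc : Coh.IsCoh (DCoh.HD (cD K) 0) := ((Groth.Agent.S1039.result X (cD K) hq 0).1 (hK 0)).1 0 le_rfl
  have hf : Module.Finite Γ(X, ⊤) Γ(DCoh.HD (cD K) 0, ⊤) :=
    Groth.Agent.Ega3B.DevQC.finite_sections hc (isAffineOpen_top X)
  have hb : Function.Bijective (secH K) := Groth.Agent.PerfA.HypAffine.unit_bijective (cD K) hq 0
  let _ : Module (DerComp.GSec X.sheaf) Γ(DCoh.HD (cD K) 0, ⊤) := Module.compHom _ (ev X)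
  let f : (SiteCmp.inD X.sheaf (ModSite.unit X.sheaf) ⟶ K) →ₗ[DerComp.GSec X.sheaf] Γ(DCoh.HD (cD K) 0, ⊤) :=
    { toFun := secH K
      map_add' := secH_add K
      map_smul' := secH_smul K }
  let _ : Algebra (DerComp.GSec X.sheaf) Γ(X, ⊤) := (ev X).toAlgebra
  have h0 : Module.Finite (DerComp.GSec X.sheaf) Γ(X, ⊤) :=
    Module.Finite.of_surjective (Algebra.linearMap (DerComp.GSec X.sheaf) Γ(X, ⊤)) (ev_bijective X).2
  have _ : IsScalarTower (DerComp.GSec X.sheaf) Γ(X, ⊤) Γ(DCoh.HD (cD K) 0, ⊤) :=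
    ⟨fun a r m => mul_smul (ev X a) r m⟩
  have h1 : Module.Finite (DerComp.GSec X.sheaf) Γ(DCoh.HD (cD K) 0, ⊤) :=
    Module.Finite.trans Γ(X, ⊤) Γ(DCoh.HD (cD K) 0, ⊤)
  exact Module.Finite.equiv (LinearEquiv.ofBijective f hb).symm

/-- `H^n(X, K)` is Noetherian-like. -/
theorem nl_hom [IsAffine X] [IsNoetherian X] {K : DerivedCategory (ModSite.Mod X.sheaf)}
    (hK : ∀ m : ℤ, DCoh.IsPseudoCoherentD (X := X) m K) (n : ℤ) :
    NL (DerComp.GSec X.sheaf) (SiteCmp.inD X.sheaf (ModSite.unit X.sheaf) ⟶ K⟦n⟧) := by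
  have := isNoetherianRing_gsec X
  have : Module.Finite (DerComp.GSec X.sheaf) (SiteCmp.inD X.sheaf (ModSite.unit X.sheaf) ⟶ K⟦n⟧) :=
    finite_hom fun m => Groth.Agent.Cohder.PCTri2.isPseudoCoherentD_shift (X := X) (n := n) (m' := n + m) rfl (hK _)
  exact NL.of_finite

end Fin

end K780.AffFin
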