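import Groth.Agent.DerComp.K780.ShiftStep

/-!
# Finitely generated modules over a complete Noetherian ring are derived complete
-/

set_option autoImplicit false

universe u v

namespace K780.ShiftAlg

variable {A : Type u} [CommRing A]

lemma Cmp.pi {f : A} (h : Cmp A f) (n : ℕ) : Cmp (Fin n → A) f := by
  apply cmp_of
  · intro x hx
    funext k i
    exact congrFun (h.eq_zero (x := fun k => x k i) (fun k => congrFun (hx k) i)) k
  · intro w
    choose x hx using fun i => h.exists_sol (fun k => w k i)
    exact ⟨fun k i => x i k, fun k => funext fun i => hx i k⟩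

/-- A finite module over a Noetherian ring complete with respect to `f` is complete. -/
theorem Cmp.of_finite [IsNoetherianRing A] {f : A} (h : Cmp A f) (M : Type v) [AddCommGroup M] [Module A M]
    [Module.Finite A M] : Cmp M f := by
  obtain ⟨n, p, hp⟩ := Module.Finite.exists_fin' A M
  obtain ⟨m, q, hq⟩ := Module.Finite.exists_fin' A (LinearMap.ker p)
  have e := LinearMap.quotKerEquivOfSurjective p hp
  refine Cmp.of_linearEquiv e ?_
  refine Cmpl.coker (φ := DistribSMul.toAddMonoidHom (Fin m → A) f) (φ' := DistribSMul.toAddMonoidHom (Fin n → A) f)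
    ((LinearMap.ker p).subtype.comp q).toAddMonoidHom (fun x => ?_) (h.pi m).2 (h.pi n)
    (LinearMap.ker p).mkQ.toAddMonoidHom (Submodule.mkQ_surjective _) (fun y => ?_) _ (fun y => ?_)
  · exact map_smul ((LinearMap.ker p).subtype.comp q) f x
  · change (LinearMap.ker p).mkQ y = 0 ↔ ∃ x, (q x : Fin n → A) = y
    rw [Submodule.mkQ_apply, Submodule.Quotient.mk_eq_zero]
    constructor
    · intro hy
      obtain ⟨x, hx⟩ := hq ⟨y, hy⟩
      exact ⟨x, by rw [hx]⟩
    · rintro ⟨x, rfl⟩
      exact (q x).2
  · exact (map_smul (LinearMap.ker p).mkQ f y).symm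

end K780.ShiftAlg
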