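import Groth.Agent.DerComp.K780.QcIdeal

/-!
# Vanishing of the cohomology of the derived completion of a coherent module on affine opens
-/

set_option autoImplicit false
set_option linter.unusedSectionVars false

universe v u

open CategoryTheory CategoryTheory.Limits Opposite Pretriangulated AlgebraicGeometry TopologicalSpace

attribute [local instance] HasDerivedCategory.standard

namespace K780.CohVan

open K780.ShiftAlg K780.Tele K780.Res K780.GenBy K780.AffCoh K780.QcIdeal

theorem isGenBy_span {C : Type u} [SmallCategory C] {J : GrothendieckTopology C} {O : Sheaf J CommRingCat.{u}}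
    {ι : Type v} {s : ι → DerComp.GSec O} {I : DerComp.IdealSh O} (hI : I.IsGenBy s) :
    I.IsGenBy (fun a : Ideal.span (Set.range s) => (a : DerComp.GSec O)) :=
  ⟨fun a U => contains_span hI.1 a.2 U, fun I' h => hI.2 I' fun i U => h ⟨s i, Ideal.subset_span ⟨i, rfl⟩⟩ U⟩

variable {X : Scheme.{u}} {𝓘 : DerComp.IdealSh X.sheaf}

theorem isFiniteType [IsLocallyNoetherian X]
    (hqc : ∀ (U : X.affineOpens) (g : Γ(X, ↑U)), 𝓘.ideal (X.basicOpen g) = Ideal.map (X.presheaf.map (homOfLE (X.basicOpen_le g)).op).hom (𝓘.ideal ↑U)) :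
    𝓘.IsFiniteType := by
  intro W
  let S : Sieve W :=
    { arrows := fun V _ => ∃ U : X.Opens, IsAffineOpen U ∧ V ≤ U
      downward_closed := by
        rintro V V' g ⟨U, h1, h2⟩ k
        exact ⟨U, h1, (leOfHom k).trans h2⟩ }
  refine ⟨S, ?_, ?_⟩
  · intro x hx
    obtain ⟨U, hU, hxU, hUW⟩ := exists_isAffineOpen_mem_and_subset (x := x) (U := W) hx
    exact ⟨U, homOfLE hUW, ⟨U, hU, le_rfl⟩, hxU⟩
  · rintro V g ⟨U, hU, hVU⟩
    have : IsNoetherianRing Γ(X, U) := IsLocallyNoetherian.component_noetherian ⟨U, hU⟩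
    obtain ⟨r, a, ha⟩ := Submodule.fg_iff_exists_fin_generating_family.1
      (IsNoetherian.noetherian (show Ideal Γ(X, U) from 𝓘.ideal U))
    exact ⟨r, fun j => rs hVU (a j), isGenBy_over hqc hU hVU a ha⟩

/-- **Vanishing on the localised site**. -/
theorem subsingleton_over [IsLocallyNoetherian X]
    (hqc : ∀ (U : X.affineOpens) (g : Γ(X, ↑U)), 𝓘.ideal (X.basicOpen g) = Ideal.map (X.presheaf.map (homOfLE (X.basicOpen_le g)).op).hom (𝓘.ideal ↑U))
    {F : X.Modules} (hF : Coh.IsCoh F) {U : X.Opens} (hU : IsAffineOpen U)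
    [DerComp.HasDerCompletion (X.sheaf.over U) (𝓘.over U)] {p : ℤ} (hp : p ≠ 0) :
    Subsingleton (SiteCmp.inD (X.sheaf.over U) (ModSite.unit (X.sheaf.over U)) ⟶
      ((DerComp.derCompletion (X.sheaf.over U) (𝓘.over U)).obj ((resD X.sheaf U).obj (SiteCmp.inD X.sheaf F))).obj⟦p⟧) := by
  have : IsNoetherianRing Γ(X, U) := IsLocallyNoetherian.component_noetherian ⟨U, hU⟩
  obtain ⟨r, a, ha⟩ := Submodule.fg_iff_exists_fin_generating_family.1
      (IsNoetherian.noetherian (show Ideal Γ(X, U) from 𝓘.ideal U))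
  have h1 := isGenBy_span (isGenBy_over hqc hU (le_refl U) a ha)
  have h2 : (Ideal.span (Set.range fun j => DerComp.GSec.ofSect X.sheaf U (rs (le_refl U) (a j)))).FG :=
    Submodule.fg_span (Set.finite_range _)
  have h3 := adic_of_isGenBy h2 h1 ((resD X.sheaf U).obj (SiteCmp.inD X.sheaf F))
    (SiteCmp.inD (X.sheaf.over U) (ModSite.unit (X.sheaf.over U))) (fun n => nl_res hF hU n) p
  have h4 := subsingleton_res F hF.1 hU hp
  obtain ⟨h5, h6⟩ := h3
  have h7 := h5.toIsHausdorff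
  have key : ∀ y : (SiteCmp.inD (X.sheaf.over U) (ModSite.unit (X.sheaf.over U)) ⟶
      ((DerComp.derCompletion (X.sheaf.over U) (𝓘.over U)).obj ((resD X.sheaf U).obj (SiteCmp.inD X.sheaf F))).obj⟦p⟧),
      y = 0 := by
    intro y
    refine h7.haus y fun n => ?_
    obtain ⟨x, hx⟩ := (h6 n).1 y
    have hx0 : x = 0 := h4.elim _ _
    rw [hx0, map_zero, zero_sub] at hx
    rw [SModEq.sub_mem, sub_zero]
    exact neg_mem_iff.1 hx
  exact ⟨fun y z => (key y).trans (key z).symm⟩

/-- **Main theorem**, with the commutation of derived completion with restriction as a hypothesis. -/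
theorem main [IsLocallyNoetherian X]
    (hqc : ∀ (U : X.affineOpens) (g : Γ(X, ↑U)), 𝓘.ideal (X.basicOpen g) = Ideal.map (X.presheaf.map (homOfLE (X.basicOpen_le g)).op).hom (𝓘.ideal ↑U))
    [DerComp.HasDerCompletion X.sheaf 𝓘]
    {F : X.Modules} (hF : Coh.IsCoh F) {U : X.Opens} (hU : IsAffineOpen U)
    [DerComp.HasDerCompletion (X.sheaf.over U) (𝓘.over U)]
    (e : Nonempty (((DerComp.derCompletion (X.sheaf.over U) (𝓘.over U)).obj
      ((resD X.sheaf U).obj (SiteCmp.inD X.sheaf F))).obj ≅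
      (resD X.sheaf U).obj ((DerComp.derCompletion X.sheaf 𝓘).obj (SiteCmp.inD X.sheaf F)).obj)) {p : ℤ} (hp : p ≠ 0) :
    Subsingleton (SiteCmp.inD X.sheaf (ModSite.freeOn X.sheaf U) ⟶
      ((DerComp.derCompletion X.sheaf 𝓘).obj (SiteCmp.inD X.sheaf F)).obj⟦p⟧) := by
  obtain ⟨e⟩ := e
  have h1 := subsingleton_over hqc hF hU hp
  have h2 : Subsingleton (SiteCmp.inD (X.sheaf.over U) (ModSite.unit (X.sheaf.over U)) ⟶
      ((resD X.sheaf U).obj ((DerComp.derCompletion X.sheaf 𝓘).obj (SiteCmp.inD X.sheaf F)).obj)⟦p⟧) :=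
    (postI (R := DerComp.GSec (X.sheaf.over U)) ((shiftFunctor _ p).mapIso e.symm) _).toEquiv.subsingleton
  exact (homRes X.sheaf U (ModSite.unit (X.sheaf.over U))
    ((DerComp.derCompletion X.sheaf 𝓘).obj (SiteCmp.inD X.sheaf F)).obj p).toEquiv.subsingleton

end K780.CohVan
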