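import Groth.Agent.DerComp.K780.Iter

/-!
# Hom groups that are already complete do not change under completion
-/

set_option autoImplicit false
set_option linter.unusedSectionVars false

universe v u w

open CategoryTheory CategoryTheory.Limits Pretriangulated

namespace K780.Tele

open K780.ShiftAlg

variable {R : Type w} [CommRing R] {T : Type u} [Category.{v} T] [Preadditive T] [HasZeroObject T] [HasShift T ℤ]
  [∀ n : ℤ, (shiftFunctor T n).Additive] [Pretriangulated T] [Linear R T]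
  [∀ n : ℤ, Functor.Linear R (shiftFunctor T n)]

variable {s : R} {L K C : T} {p : L ⟶ K} {q : K ⟶ C} {r : C ⟶ L⟦(1 : ℤ)⟧}

/-- If `Hom(X, K[n])` is `s`-complete for all `n` then so is `Hom(Y, K)` for `Y = X[m]`. -/
lemma cmp_shift {X K : T} (h : ∀ n : ℤ, Cmp (X ⟶ K⟦n⟧) s) (m : ℤ) : Cmp (X⟦m⟧ ⟶ K) s := by
  have h1 : Cmp (X⟦-(-m)⟧ ⟶ K) s := (h (-m)).of_linearEquiv (shL (R := R) X K (-m)).symm
  rwa [neg_neg] at h1

lemma cmp_shift' {X K : T} (h : ∀ n : ℤ, Cmp (X ⟶ K⟦n⟧) s) (m n : ℤ) : Cmp (X⟦m⟧ ⟶ K⟦n⟧) s := by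
  apply cmp_shift
  intro k
  exact (h (n + k)).of_linearEquiv (postI ((shiftFunctorAdd T n k).app K) X)

/-- For a triangle `L → K → C` with `s` invertible on `L` and `C` `s`-complete: if the groups `Hom(X, K[n])` are
`s`-complete then `Hom(X[m], L[1]) = 0` for all `m`. -/
lemma hom_eq_zero_of_cmp (h : Triangle.mk p q r ∈ distTriang T) (hL : Invt s L) (hC : IsCompl s C) {X : T}
    (hX : ∀ n : ℤ, Cmp (X ⟶ K⟦n⟧) s) (m : ℤ) (φ : X⟦m⟧ ⟶ L⟦(1 : ℤ)⟧) : φ = 0 := by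
  have key : Cmp (X⟦m⟧ ⟶ L⟦(1 : ℤ)⟧) s :=
    cmp_of_triangle (rot_of_distTriang _ h) (X⟦m⟧) s (cmp_shift hX m) (hC _) (cmp_shift' hX m 1)
      (hC.shift 1 _)
  exact key.eq_zero_of_surjective (fun t => (Invt.bijective (hL.shift 1) _).2 t) φ

lemma hom_eq_zero_of_cmp' (h : Triangle.mk p q r ∈ distTriang T) (hL : Invt s L) (hC : IsCompl s C) {X : T}
    (hX : ∀ n : ℤ, Cmp (X ⟶ K⟦n⟧) s) (m : ℤ) (φ : X⟦m⟧ ⟶ L) : φ = 0 := by
  apply (shiftFunctor T (1 : ℤ)).map_injective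
  rw [Functor.map_zero, ← cancel_epi ((shiftFunctorAdd T m 1).app X).hom, comp_zero]
  exact hom_eq_zero_of_cmp h hL hC hX (m + 1) _

/-- Under the same hypotheses `Hom(X, K[n]) → Hom(X, C[n])` is bijective. -/
theorem bijective_of_cmp (h : Triangle.mk p q r ∈ distTriang T) (hL : Invt s L) (hC : IsCompl s C) {X : T}
    (hX : ∀ n : ℤ, Cmp (X ⟶ K⟦n⟧) s) (n : ℤ) :
    Function.Bijective (Linear.rightComp R X (q⟦n⟧')) := by
  have key : Function.Bijective (fun φ : X⟦-n⟧ ⟶ K => φ ≫ q) := by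
    constructor
    · intro φ φ' hφ
      dsimp only at hφ
      rw [← sub_eq_zero, ← Preadditive.sub_comp] at hφ
      rw [← sub_eq_zero]
      obtain ⟨ψ, hψ⟩ := ex₂ h _ hφ
      rw [hψ, hom_eq_zero_of_cmp' h hL hC hX (-n) ψ, zero_comp]
    · intro φ
      obtain ⟨ψ, hψ⟩ := ex₃ h φ (hom_eq_zero_of_cmp h hL hC hX (-n) _)
      exact ⟨ψ, hψ.symm⟩
  have e : (Linear.rightComp R X (q⟦n⟧') : (X ⟶ K⟦n⟧) → (X ⟶ C⟦n⟧)) =
      (shL (R := R) X C n) ∘ (fun φ : X⟦-n⟧ ⟶ K => φ ≫ q) ∘ (shL (R := R) X K n).symm := by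
    funext φ
    simp only [Function.comp_apply]
    rw [shL_comp, LinearEquiv.apply_symm_apply]
    rfl
  rw [e]
  exact (shL (R := R) X C n).bijective.comp (key.comp (shL (R := R) X K n).symm.bijective)

section Iter

variable [∀ K : T, HasProduct fun _ : ℕ => K]

/-- **The iterated completion**, with its effect on Hom groups that are already complete. -/
theorem exists_iter₂ (l : List R) (K : T) : ∃ (C : T) (q : K ⟶ C), (∀ s ∈ l, IsCompl s C) ∧
    (∀ g : R, IsCompl g K → IsCompl g C) ∧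
    (∀ Z : T, (∀ s ∈ l, IsCompl s Z) → Function.Bijective (fun φ : C ⟶ Z => q ≫ φ)) ∧
    ∀ X : T, (∀ s ∈ l, ∀ n : ℤ, Cmp (X ⟶ K⟦n⟧) s) → ∀ n : ℤ, Function.Bijective (Linear.rightComp R X (q⟦n⟧')) := by
  induction l generalizing K with
  | nil =>
    refine ⟨K, 𝟙 K, by simp, fun g h => h, fun Z _ => ?_, fun X hX n => ?_⟩
    · simp only [Category.id_comp]
      exact Function.bijective_id
    · have : Linear.rightComp R X ((𝟙 K)⟦n⟧') = LinearMap.id := by
        ext φ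
        simp
      rw [this]
      exact Function.bijective_id
  | cons s l ih =>
    obtain ⟨L, C₁, p, q₁, r, ht, hL, hC₁, hg⟩ := exists_step s K
    obtain ⟨C, q₂, h1, h2, h3, h4⟩ := ih C₁
    refine ⟨C, q₁ ≫ q₂, ?_, fun g h => h2 g (hg g h), fun Z hZ => ?_, fun X hX n => ?_⟩
    · intro t ht'
      rcases List.mem_cons.1 ht' with rfl | ht'
      · exact h2 _ hC₁
      · exact h1 _ ht'
    · have e1 := h3 Z fun t ht' => hZ t (List.mem_cons_of_mem _ ht')
      have e2 := bijective_comp ht hL (hZ s List.mem_cons_self)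
      have e3 : (fun φ : C ⟶ Z => (q₁ ≫ q₂) ≫ φ) = (fun φ : C₁ ⟶ Z => q₁ ≫ φ) ∘ (fun φ : C ⟶ Z => q₂ ≫ φ) := by
        funext φ
        simp
      rw [e3]
      exact e2.comp e1
    · have g1 := fun m => bijective_of_cmp ht hL hC₁ (hX s List.mem_cons_self) m
      have g2 := h4 X (fun t ht' m => (hX t (List.mem_cons_of_mem _ ht') m).of_linearEquiv
        (LinearEquiv.ofBijective _ (g1 m))) n
      have e3 : (Linear.rightComp R X ((q₁ ≫ q₂)⟦n⟧') : (X ⟶ K⟦n⟧) → (X ⟶ C⟦n⟧)) =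
          (Linear.rightComp R X (q₂⟦n⟧')) ∘ (Linear.rightComp R X (q₁⟦n⟧')) := by
        funext φ
        simp
      rw [e3]
      exact g2.comp (g1 n)

end Iter

end K780.Tele
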