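import Groth.Agent.DerComp.K780.ProperMap

/-!
# Derived completion on a scheme over a complete Noetherian ring
-/

set_option autoImplicit false
set_option linter.unusedSectionVars false

universe u

open CategoryTheory CategoryTheory.Limits Opposite Pretriangulated AlgebraicGeometry TopologicalSpace

attribute [local instance] HasDerivedCategory.standard

namespace K780.ProperExt

open K780.ShiftAlg K780.Tele K780.GenBy K780.AffFin K780.ProperMap

variable {A : Type u} [CommRing A] {X : Scheme.{u}} (f : X ⟶ Spec (CommRingCat.of A))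

/-- The ring map `A → Γ(X, O_X)` into the ring of global sections. -/
noncomputable def rho : A →+* DerComp.GSec X.sheaf :=
  (evEquiv X).symm.toRingHom.comp (Coh.toGlobal f)

lemma rho_val (a : A) (U : X.Opens) : (rho f a).1 U =
    (X.presheaf.map (homOfLE (le_top : U ≤ ⊤)).op).hom
      (f.appTop.hom ((AlgebraicGeometry.Scheme.ΓSpecIso (CommRingCat.of A)).inv.hom a)) := by
  have h1 : ev X (rho f a) = Coh.toGlobal f a := (evEquiv X).apply_symm_apply _
  have h2 := (rho f a).2 (homOfLE (le_top : U ≤ ⊤))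
  rw [← h2]
  exact congrArg _ h1

/-- The action of `A` on `D(X)` is through global sections. -/
theorem smul_eq [X.Over (Spec (CommRingCat.of A))] {K L : DCoh.D X} (φ : K ⟶ L) (a : A) :
    letI : Linear (DerComp.GSec X.sheaf) X.Modules := DerComp.linearGSec (O := X.sheaf)
    a • φ = rho (X ↘ Spec (CommRingCat.of A)) a • φ := by
  let _ : Linear (DerComp.GSec X.sheaf) X.Modules := DerComp.linearGSec (O := X.sheaf)
  refine smul_eq_smul (rho (X ↘ Spec (CommRingCat.of A))) (fun M r => ?_) φ a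
  refine Scheme.Modules.hom_ext _ _ fun U => ?_
  ext m
  rw [KLin.smul_app_apply, Scheme.Modules.Hom.id_app]
  have h := rho_val (X ↘ Spec (CommRingCat.of A)) r U
  exact congrArg (fun t : Γ(X, U) => t • m) h.symm

variable {f}

theorem isGenBy {I : Ideal A} {𝓙 : DerComp.IdealSh X.sheaf}
    (h1 : ∀ a : A, a ∈ I → ∀ U : X.Opens, (X.presheaf.map (homOfLE (le_top : U ≤ ⊤)).op).hom (f.appTop.hom ((AlgebraicGeometry.Scheme.ΓSpecIso (CommRingCat.of A)).inv.hom a)) ∈ 𝓙.ideal U)
    (h2 : ∀ 𝓙' : DerComp.IdealSh X.sheaf, (∀ a : A, a ∈ I → ∀ U : X.Opens, (X.presheaf.map (homOfLE (le_top : U ≤ ⊤)).op).hom (f.appTop.hom ((AlgebraicGeometry.Scheme.ΓSpecIso (CommRingCat.of A)).inv.hom a)) ∈ 𝓙'.ideal U) → 𝓙 ≤ 𝓙') :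
    𝓙.IsGenBy (fun a : I.map (rho f) => (a : DerComp.GSec X.sheaf)) := by
  constructor
  · intro a U
    have h3 : 𝓙.Contains (fun b : I => rho f b) := fun b U => by
      rw [rho_val]
      exact h1 b b.2 U
    refine contains_span h3 ?_ U
    have h4 : I.map (rho f) = Ideal.span (Set.range fun b : I => rho f b) := by
      rw [Ideal.map, Set.image_eq_range]
      rfl
    rw [← h4]
    exact a.2
  · intro 𝓙' h
    refine h2 𝓙' fun a ha U => ?_
    rw [← rho_val]
    exact h ⟨rho f a, Ideal.mem_map_of_mem _ ha⟩ U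

/-- **Main theorem**, with the finiteness of the Hom groups as a hypothesis. -/
theorem main [IsNoetherianRing A] (I : Ideal A) [IsAdicComplete I A] {𝓙 : DerComp.IdealSh X.sheaf}
    (h1 : ∀ a : A, a ∈ I → ∀ U : X.Opens, (X.presheaf.map (homOfLE (le_top : U ≤ ⊤)).op).hom (f.appTop.hom ((AlgebraicGeometry.Scheme.ΓSpecIso (CommRingCat.of A)).inv.hom a)) ∈ 𝓙.ideal U)
    (h2 : ∀ 𝓙' : DerComp.IdealSh X.sheaf, (∀ a : A, a ∈ I → ∀ U : X.Opens, (X.presheaf.map (homOfLE (le_top : U ≤ ⊤)).op).hom (f.appTop.hom ((AlgebraicGeometry.Scheme.ΓSpecIso (CommRingCat.of A)).inv.hom a)) ∈ 𝓙'.ideal U) → 𝓙 ≤ 𝓙')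
    [DerComp.HasDerCompletion X.sheaf 𝓙] (F G : DerivedCategory (ModSite.Mod X.sheaf))
    (hfin : letI : X.Over (Spec (CommRingCat.of A)) := ⟨f⟩
      ∀ n : ℤ, Module.Finite A (cD F ⟶ (cD G)⟦n⟧)) :
    Function.Bijective (fun ψ : F ⟶ G => (DerComp.derCompletion X.sheaf 𝓙).map ψ) := by
  refine bijective_map (𝔞 := I.map (rho f)) (Ideal.FG.map (IsNoetherian.noetherian I) _) (isGenBy h1 h2) F G
    fun a ha n => ?_
  have h3 : I.map (rho f) ≤ cmpIdeal (DerComp.GSec X.sheaf) (F ⟶ G⟦n⟧) := by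
    rw [Ideal.map_le_iff_le_comap]
    intro b hb
    let _ : X.Over (Spec (CommRingCat.of A)) := ⟨f⟩
    have _ := hfin n
    have h4 : Cmp A b := cmp_of_isAdicComplete I hb
    have h5 : Cmp (cD F ⟶ (cD G)⟦n⟧) b := h4.of_finite _
    change Cmp (F ⟶ G⟦n⟧) (rho f b)
    apply cmp_of
    · intro x hx
      refine h5.eq_zero (x := fun k => x k) fun k => ?_
      exact (hx k).trans (smul_eq (X := X) (A := A) (x (k + 1)) b).symm
    · intro w
      obtain ⟨x, hx⟩ := h5.exists_sol (fun k => w k)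
      exact ⟨fun k => x k, fun k => (hx k).trans (congrArg (fun t => w k + t) (smul_eq (X := X) (A := A) (x (k + 1)) b))⟩
  exact h3 ha

end K780.ProperExt
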