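import Groth.Agent.DerComp.K780.GenBy
import Groth.Agent.DerComp.K780.Iter2
import Groth.Agent.DerComp.K780.CmpFin
import Groth.Agent.DerComp.K780.AffFin
import Groth.Prelude.Def_KLin

/-!
# Hom groups into derived completions over a complete base
-/

set_option autoImplicit false
set_option linter.unusedSectionVars false

universe v u w

open CategoryTheory CategoryTheory.Limits Opposite Pretriangulated AlgebraicGeometry TopologicalSpace

attribute [local instance] HasDerivedCategory.standard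

namespace K780.ProperMap

open K780.ShiftAlg K780.Tele K780.Away K780.Glob K780.Res K780.GenBy

section Site

variable {C : Type u} [SmallCategory C] {J : GrothendieckTopology C} {O : Sheaf J CommRingCat.{u}}

/-- If all `Hom(X, K[n])` are complete with respect to a finitely generated ideal `𝔞` of global sections generating `I`, then
`Hom(X, K[n]) = Hom(X, K^[n])`. -/
theorem bijective_of_isGenBy {I : DerComp.IdealSh O} [DerComp.HasDerCompletion O I] {𝔞 : Ideal (DerComp.GSec O)}
    (h𝔞 : 𝔞.FG) (hI : I.IsGenBy (fun a : 𝔞 => (a : DerComp.GSec O))) (K X : DerivedCategory (ModSite.Mod O))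
    (hX : ∀ a ∈ 𝔞, ∀ n : ℤ, Cmp (X ⟶ K⟦n⟧) a) (n : ℤ) :
    Function.Bijective (Linear.rightComp (DerComp.GSec O) X
        ((shiftFunctor (DerivedCategory (ModSite.Mod O)) n).map (DerComp.toDerCompletion I K))) := by
  have := hasProduct (O := O)
  obtain ⟨t, ht⟩ := h𝔞
  obtain ⟨K', q, h1, -, h3, h4⟩ := exists_iter₂ t.toList K
  have hgen : I.IsGenBy (fun i : t => (i : DerComp.GSec O)) := by
    refine isGenBy_of_span (𝔞 := 𝔞) ?_ hI
    rw [← ht]
    congr 1
    ext x
    simp
  have hiff : ∀ Z, DerComp.IsDerComp O I Z ↔ ∀ s ∈ t.toList, IsCompl s Z := fun Z => by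
    rw [isDerComp_iff_of_isGenBy hgen]
    exact ⟨fun h s hs => h ⟨s, Finset.mem_toList.1 hs⟩, fun h i => h i.1 (Finset.mem_toList.2 i.2)⟩
  obtain ⟨e, he⟩ := exists_iso_derCompletion I q ((hiff K').2 h1) fun Z hZ => h3 Z ((hiff Z).1 hZ)
  have h5 := h4 X (fun s hs m => hX s (by rw [← ht]; exact Ideal.subset_span (Finset.mem_toList.1 hs)) m) n
  let e' : (X ⟶ K'⟦n⟧) ≃ₗ[DerComp.GSec O] (X ⟶ ((DerComp.derCompletion O I).obj K).obj⟦n⟧) :=
    postI ((shiftFunctor (DerivedCategory (ModSite.Mod O)) n).mapIso e) X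
  have h6 : (Linear.rightComp (DerComp.GSec O) X ((shiftFunctor (DerivedCategory (ModSite.Mod O)) n).map
      (DerComp.toDerCompletion I K)) : (X ⟶ K⟦n⟧) → _) =
      e' ∘ (Linear.rightComp (DerComp.GSec O) X (q⟦n⟧')) := by
    funext φ
    change φ ≫ (shiftFunctor (DerivedCategory (ModSite.Mod O)) n).map (DerComp.toDerCompletion I K) =
      (φ ≫ q⟦n⟧') ≫ e.hom⟦n⟧'
    rw [← he, Functor.map_comp, Category.assoc]
  rw [h6]
  exact e'.bijective.comp h5

/-- Under the same hypotheses, derived completion is bijective on `Hom(X, K)`. -/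
theorem bijective_map {I : DerComp.IdealSh O} [DerComp.HasDerCompletion O I] {𝔞 : Ideal (DerComp.GSec O)}
    (h𝔞 : 𝔞.FG) (hI : I.IsGenBy (fun a : 𝔞 => (a : DerComp.GSec O))) (X K : DerivedCategory (ModSite.Mod O))
    (hX : ∀ a ∈ 𝔞, ∀ n : ℤ, Cmp (X ⟶ K⟦n⟧) a) :
    Function.Bijective (fun ψ : X ⟶ K => (DerComp.derCompletion O I).map ψ) := by
  have h0 := bijective_of_isGenBy h𝔞 hI K X hX 0
  -- remove the shift by zero
  have h1 : Function.Bijective (fun ψ : X ⟶ K => ψ ≫ DerComp.toDerCompletion I K) := by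
    let i : ∀ Z : DerivedCategory (ModSite.Mod O), Z⟦(0 : ℤ)⟧ ≅ Z := fun Z =>
      (shiftFunctorZero (DerivedCategory (ModSite.Mod O)) ℤ).app Z
    have h2 : (fun ψ : X ⟶ K => ψ ≫ DerComp.toDerCompletion I K) =
        (postI (R := DerComp.GSec O) (i _) X) ∘ (Linear.rightComp (DerComp.GSec O) X
        ((shiftFunctor (DerivedCategory (ModSite.Mod O)) (0 : ℤ)).map (DerComp.toDerCompletion I K))) ∘
        (postI (R := DerComp.GSec O) (i _) X).symm := by
      funext ψ
      change _ = ((ψ ≫ (i K).inv) ≫ (shiftFunctor (DerivedCategory (ModSite.Mod O)) (0 : ℤ)).map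
        (DerComp.toDerCompletion I K)) ≫ (i _).hom
      have h3 := (shiftFunctorZero (DerivedCategory (ModSite.Mod O)) ℤ).hom.naturality (DerComp.toDerCompletion I K)
      rw [Category.assoc, Category.assoc]
      change _ = ψ ≫ (i K).inv ≫ (shiftFunctor (DerivedCategory (ModSite.Mod O)) (0 : ℤ)).map
        (DerComp.toDerCompletion I K) ≫ (shiftFunctorZero (DerivedCategory (ModSite.Mod O)) ℤ).hom.app _
      rw [h3]
      change _ = ψ ≫ (i K).inv ≫ (i K).hom ≫ _
      rw [Iso.inv_hom_id_assoc]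
      rfl
    rw [h2]
    exact (LinearEquiv.bijective _).comp (h0.comp (LinearEquiv.bijective _))
  let adj := DerComp.derCompletionAdj O I
  have h4 : (fun ψ : X ⟶ K => (DerComp.derCompletion O I).map ψ) =
      (adj.homEquiv X ((DerComp.derCompletion O I).obj K)).symm ∘
        (fun ψ : X ⟶ K => ψ ≫ DerComp.toDerCompletion I K) := by
    funext ψ
    rw [Function.comp_apply, Equiv.eq_symm_apply, Adjunction.homEquiv_unit]
    exact (adj.unit.naturality ψ).symm
  rw [h4]
  exact (Equiv.bijective _).comp h1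

end Site

section Lin

variable {R : Type*} {S : Type*} [CommRing R] [CommRing S] {𝒞 : Type*} [Category 𝒞] [Abelian 𝒞]
  [HasDerivedCategory 𝒞] [Linear R 𝒞] [Linear S 𝒞]

/-- comparison of two linear structures on a derived category. -/
theorem smul_eq_smul (ρ : R → S) (h : ∀ (M : 𝒞) (r : R), r • 𝟙 M = ρ r • 𝟙 M) {K L : DerivedCategory 𝒞} (φ : K ⟶ L)
    (r : R) : r • φ = ρ r • φ := by
  have key : ∀ K : CochainComplex 𝒞 ℤ, r • 𝟙 (DerivedCategory.Q.obj K) = ρ r • 𝟙 (DerivedCategory.Q.obj K) := fun K => by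
    rw [← CategoryTheory.Functor.map_id, ← Functor.map_smul, ← Functor.map_smul]
    congr 1
    ext i
    exact h _ _
  let e := DerivedCategory.Q.objObjPreimageIso K
  have h1 : r • 𝟙 K = ρ r • 𝟙 K := by
    have h2 := congrArg (fun t => e.inv ≫ t ≫ e.hom) (key (DerivedCategory.Q.objPreimage K))
    simpa using h2
  calc r • φ = (r • 𝟙 K) ≫ φ := by rw [Linear.smul_comp, Category.id_comp]
    _ = ρ r • φ := by rw [h1, Linear.smul_comp, Category.id_comp]

end Lin

end K780.ProperMap
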