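import Groth.Agent.DerComp.K780.AffCoh

/-!
# Quasi-coherent sheaves of ideals are generated by sections over affine opens
-/

set_option autoImplicit false
set_option linter.unusedSectionVars false

universe v u

open CategoryTheory CategoryTheory.Limits Opposite Pretriangulated AlgebraicGeometry TopologicalSpace

attribute [local instance] HasDerivedCategory.standard

namespace K780.QcIdeal

variable {X : Scheme.{u}} {𝓘 : DerComp.IdealSh X.sheaf}

/-- restriction of sections. -/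
noncomputable abbrev rs {U V : X.Opens} (i : V ≤ U) (a : Γ(X, U)) : Γ(X, V) := (X.presheaf.map (homOfLE i).op).hom a

lemma rs_rs {U V W : X.Opens} (i : V ≤ U) (j : W ≤ V) (a : Γ(X, U)) : rs j (rs i a) = rs (j.trans i) a := by
  rw [rs, rs, ← CommRingCat.comp_apply, ← Functor.map_comp]
  rfl

lemma map_le {U V : X.Opens} (i : V ≤ U) {ι : Type v} (a : ι → Γ(X, U)) (IU : Ideal Γ(X, U))
    (hI : Ideal.span (Set.range a) = IU) (ID : Ideal Γ(X, V)) (h : ∀ j, rs i (a j) ∈ ID) :
    Ideal.map (X.presheaf.map (homOfLE i).op).hom IU ≤ ID := by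
  rw [← hI, Ideal.map_span, Ideal.span_le]
  rintro _ ⟨_, ⟨j, rfl⟩, rfl⟩
  exact h j

theorem isGenBy_over (hqc : ∀ (U : X.affineOpens) (g : Γ(X, ↑U)), 𝓘.ideal (X.basicOpen g) = Ideal.map (X.presheaf.map (homOfLE (X.basicOpen_le g)).op).hom (𝓘.ideal ↑U))
    {U : X.Opens} (hU : IsAffineOpen U) {V : X.Opens} (i : V ≤ U) {ι : Type v} (a : ι → Γ(X, U))
    (ha : Ideal.span (Set.range a) = 𝓘.ideal U) :
    (𝓘.over V).IsGenBy (fun j => DerComp.GSec.ofSect X.sheaf V (rs i (a j))) := by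
  have hmem : ∀ j, a j ∈ 𝓘.ideal U := fun j => by
    rw [← ha]
    exact Ideal.subset_span ⟨j, rfl⟩
  refine ⟨fun j W => ?_, fun I' hI' W f hf => ?_⟩
  · exact 𝓘.map_mem W.hom (𝓘.map_mem (homOfLE i) (hmem j))
  · let S : Sieve W :=
      { arrows := fun W' _ => ∃ s : Γ(X, U), W'.left ≤ X.basicOpen s ∧ X.basicOpen s ≤ W.left
        downward_closed := by
          rintro W' W'' g ⟨s, h1, h2⟩ k
          exact ⟨s, (leOfHom k.left).trans h1, h2⟩ }
    have hS : S ∈ ((Opens.grothendieckTopology X).over V) W := by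
      rw [GrothendieckTopology.mem_over_iff]
      intro x hx
      have hxU : x ∈ U := i (leOfHom W.hom hx)
      obtain ⟨s, hs, hxs⟩ := hU.exists_basicOpen_le (V := W.left) ⟨x, hx⟩ hxU
      refine ⟨X.basicOpen s, homOfLE hs, ?_, hxs⟩
      rw [Sieve.overEquiv_iff]
      exact ⟨s, le_rfl, hs⟩
    refine I'.glue S hS fun W' g hg => ?_
    obtain ⟨s, h1, h2⟩ := hg
    let D : Over V := Over.mk (homOfLE (h2.trans (leOfHom W.hom)))
    have hDf : rs h2 f ∈ I'.ideal D := by
      have h3 : rs h2 f ∈ 𝓘.ideal (X.basicOpen s) := 𝓘.map_mem (homOfLE h2) hf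
      have h5 : ∀ j, rs (X.basicOpen_le s) (a j) ∈ I'.ideal D := fun j => by
        have h5 := hI' j D
        change rs (h2.trans (leOfHom W.hom)) (rs i (a j)) ∈ I'.ideal D at h5
        rw [rs_rs] at h5
        exact h5
      rw [hqc ⟨U, hU⟩ s] at h3
      exact map_le (X.basicOpen_le s) a (𝓘.ideal U) ha (I'.ideal D) h5 h3
    have h6 := I'.map_mem (Over.homMk (homOfLE h1) : W' ⟶ D) hDf
    change rs h1 (rs h2 f) ∈ I'.ideal W' at h6
    rw [rs_rs] at h6
    exact h6

end K780.QcIdeal
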