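import Groth.Agent.DerComp.K780.ShiftAlg
import Groth.Agent.Ega4A.CompleteNoeth
import Mathlib.RingTheory.Noetherian.Basic

/-!
# From derived completeness to adic completeness

`Bdd M f`: bounded `f`-power torsion.  `Step`: the exact sequence `T₀ → M → N → T₁ → P` attached to a
single-section derived completion.  `Good I α`: `M / Iⁿ → N / Iⁿ` is bijective for all `n`.
-/

universe u v w

namespace K780.ShiftAlg

open Submodule

section Basic

variable {A : Type u} [CommRing A]

/-- Bounded `f`-power torsion. -/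
def Bdd (M : Type v) [AddCommGroup M] [Module A M] (f : A) : Prop :=
  ∃ c : ℕ, ∀ (k : ℕ) (x : M), f ^ k • x = 0 → f ^ c • x = 0

/-- The five term exact sequence of a single-section derived completion. -/
structure Step {T₀ M N T₁ P : Type*} [AddCommGroup T₀] [Module A T₀] [AddCommGroup M] [Module A M]
    [AddCommGroup N] [Module A N] [AddCommGroup T₁] [Module A T₁] [AddCommGroup P] [Module A P]
    (a : T₀ →ₗ[A] M) (α : M →ₗ[A] N) (δ : N →ₗ[A] T₁) (b : T₁ →ₗ[A] P) (f : A) : Prop where
  ex1 : Function.Exact a α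
  ex2 : Function.Exact α δ
  ex3 : Function.Exact δ b
  surj : ∀ t : T₀, ∃ t', t = f • t'
  bij : Function.Bijective (fun x : T₁ => f • x)

/-- `M / Iⁿ → N / Iⁿ` is bijective for all `n`. -/
def Good {M : Type v} {N : Type w} [AddCommGroup M] [Module A M] [AddCommGroup N] [Module A N]
    (I : Ideal A) (α : M →ₗ[A] N) : Prop :=
  ∀ n : ℕ, (∀ y : N, ∃ x : M, α x - y ∈ (I ^ n • ⊤ : Submodule A N)) ∧
    ∀ x : M, α x ∈ (I ^ n • ⊤ : Submodule A N) → x ∈ (I ^ n • ⊤ : Submodule A M)

lemma mem_span_pow {M : Type v} [AddCommGroup M] [Module A M] (f : A) (n : ℕ) (x : M) :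
    x ∈ ((Ideal.span {f}) ^ n • ⊤ : Submodule A M) ↔ ∃ y, x = f ^ n • y := by
  rw [Ideal.span_singleton_pow, ideal_span_singleton_smul, Submodule.mem_smul_pointwise_iff_exists]
  constructor
  · rintro ⟨y, -, hy⟩
    exact ⟨y, hy.symm⟩
  · rintro ⟨y, hy⟩
    exact ⟨y, trivial, hy.symm⟩

namespace Good

variable {M : Type v} {N : Type w} [AddCommGroup M] [Module A M] [AddCommGroup N] [Module A N]
  {Q : Type*} [AddCommGroup Q] [Module A Q]

lemma map_mem (α : M →ₗ[A] N) (J : Ideal A) {x : M} (hx : x ∈ (J • ⊤ : Submodule A M)) :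
    α x ∈ (J • ⊤ : Submodule A N) := by
  have : (J • ⊤ : Submodule A M).map α ≤ J • ⊤ := by
    rw [map_smul'']
    exact smul_mono le_rfl le_top
  exact this (Submodule.mem_map_of_mem hx)

lemma id (I : Ideal A) : Good I (LinearMap.id : M →ₗ[A] M) := fun n =>
  ⟨fun y => ⟨y, by simp⟩, fun x hx => hx⟩

lemma comp {I : Ideal A} {α : M →ₗ[A] N} {β : N →ₗ[A] Q} (h1 : Good I α) (h2 : Good I β) :
    Good I (β.comp α) := fun n => by
  refine ⟨fun y => ?_, fun x hx => (h1 n).2 _ ((h2 n).2 _ hx)⟩
  obtain ⟨z, hz⟩ := (h2 n).1 y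
  obtain ⟨x, hx⟩ := (h1 n).1 z
  refine ⟨x, ?_⟩
  have h3 := Submodule.add_mem _ (map_mem β _ hx) hz
  rw [map_sub] at h3
  simpa using h3

/-- Enlarging the ideal. -/
lemma mono {I J : Ideal A} {α : M →ₗ[A] N} (hIJ : I ≤ J) (h : Good I α) : Good J α := fun n => by
  refine ⟨fun y => ?_, fun x hx => ?_⟩
  · obtain ⟨x, hx⟩ := (h n).1 y
    exact ⟨x, smul_mono (Ideal.pow_right_mono hIJ n) le_rfl hx⟩
  · have h1 : (⊤ : Submodule A N) ≤ (⊤ : Submodule A M).map α ⊔ I ^ n • ⊤ := by
      intro y _
      obtain ⟨x, hx⟩ := (h n).1 y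
      rw [show y = α x - (α x - y) by abel]
      exact sub_mem (mem_sup_left (mem_map_of_mem trivial)) (mem_sup_right hx)
    have h2 : (J ^ n • ⊤ : Submodule A N) ≤ (J ^ n • ⊤ : Submodule A M).map α ⊔ (I ^ n • ⊤ : Submodule A N) := by
      calc (J ^ n • ⊤ : Submodule A N) ≤ J ^ n • ((⊤ : Submodule A M).map α ⊔ I ^ n • ⊤) :=
            smul_mono le_rfl h1
        _ = (J ^ n • ⊤ : Submodule A M).map α ⊔ J ^ n • (I ^ n • ⊤ : Submodule A N) := by
            rw [smul_sup, map_smul'']
        _ ≤ _ := sup_le_sup le_rfl smul_le_right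
    obtain ⟨y, hy, z, hz, hyz⟩ := mem_sup.1 (h2 hx)
    obtain ⟨x', hx', rfl⟩ := hy
    have h3 : α (x - x') ∈ (I ^ n • ⊤ : Submodule A N) := by
      rw [map_sub, ← hyz, add_sub_cancel_left]
      exact hz
    have h4 : x - x' ∈ (J ^ n • ⊤ : Submodule A M) :=
      smul_mono (Ideal.pow_right_mono hIJ n) le_rfl ((h n).2 _ h3)
    have := add_mem h4 hx'
    simpa using this

/-- Adic completeness transported along a good map: uniqueness of adic completions. -/
lemma bijective_map {I : Ideal A} {α : M →ₗ[A] N} (h : Good I α) :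
    Function.Bijective (AdicCompletion.map I α) := by
  constructor
  · rw [injective_iff_map_eq_zero]
    intro x hx
    apply AdicCompletion.ext
    intro n
    have h1 := AdicCompletion.map_val_apply I α (n := n) x
    rw [hx] at h1
    obtain ⟨m, hm⟩ := Submodule.mkQ_surjective _ (x.val n)
    rw [← hm] at h1 ⊢
    rw [AdicCompletion.val_zero_apply]
    rw [Submodule.mkQ_apply, Submodule.Quotient.mk_eq_zero]
    apply (h n).2
    have h2 : Submodule.Quotient.mk (p := (I ^ n • ⊤ : Submodule A N)) (α m) = 0 := h1.symm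
    rwa [Submodule.Quotient.mk_eq_zero] at h2
  · intro y
    induction y using AdicCompletion.induction_on with | _ b
    choose g hg using fun n => (h n).1 (b n)
    have hb : ∀ n, b n - b (n + 1) ∈ (I ^ n • ⊤ : Submodule A N) := fun n =>
      (SModEq.sub_mem).1 (b.2 (Nat.le_succ n))
    have hc : ∀ n, g n ≡ g (n + 1) [SMOD (I ^ n • ⊤ : Submodule A M)] := fun n => by
      rw [SModEq.sub_mem]
      apply (h n).2
      have h1 : α (g (n + 1)) - b (n + 1) ∈ (I ^ n • ⊤ : Submodule A N) :=
        smul_mono (Ideal.pow_le_pow_right (Nat.le_succ n)) le_rfl (hg (n + 1))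
      have h2 := sub_mem (add_mem (hg n) (hb n)) h1
      rw [map_sub]
      convert h2 using 1
      abel
    refine ⟨AdicCompletion.mk I M (AdicCompletion.AdicCauchySequence.mk I M g hc), ?_⟩
    rw [AdicCompletion.map_mk]
    apply AdicCompletion.ext
    intro n
    rw [AdicCompletion.mk_apply_coe, AdicCompletion.mk_apply_coe, Submodule.mkQ_apply, Submodule.mkQ_apply,
      Submodule.Quotient.eq]
    exact hg n

/-- An adically complete target of a good map is the adic completion. -/
noncomputable def equiv {I : Ideal A} {α : M →ₗ[A] N} (h : Good I α) [IsAdicComplete I N] :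
    AdicCompletion I M ≃ₗ[A] N :=
  (LinearEquiv.ofBijective ((AdicCompletion.map I α).restrictScalars A) h.bijective_map).trans
    (AdicCompletion.ofLinearEquiv I N).symm

end Good

end Basic

end K780.ShiftAlg
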