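import Mathlib.RingTheory.AdicCompletion.Basic
import Mathlib.RingTheory.AdicCompletion.Completeness
import Mathlib.RingTheory.AdicCompletion.Functoriality
import Mathlib.RingTheory.AdicCompletion.AsTensorProduct
import Mathlib.RingTheory.Filtration

/-!
# Derived completeness of a module with respect to an endomorphism, elementwise

For an endomorphism `φ` of an abelian group `M` we consider the map `sh φ` on sequences
`(x_k) ↦ (x_k - φ x_{k+1})`; its kernel is `Hom(ℤ[t,1/t], M)` and its cokernel is `Ext¹(ℤ[t,1/t], M)` (`t` acting as `φ`).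
`Cmpl φ` says that `sh φ` is bijective.  We prove that the `f` in a commutative ring for which a module is
`Cmpl` form an ideal, that `Cmpl f` together with bounded `f`-torsion is the same as `f`-adic completeness, and
that a Noetherian-like module which is `Cmpl` for generators of `I` is `I`-adically complete.
-/

universe u v w

namespace K780.ShiftAlg

section End

variable {M : Type v} [AddCommGroup M]

/-- The map `(x_k) ↦ (x_k - φ x_{k+1})` on sequences. -/
def sh (φ : M →+ M) : (ℕ → M) →+ (ℕ → M) where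
  toFun x k := x k - φ (x (k + 1))
  map_zero' := by ext k; simp
  map_add' x y := by ext k; simp only [Pi.add_apply, map_add]; abel

@[simp] lemma sh_apply (φ : M →+ M) (x : ℕ → M) (k : ℕ) : sh φ x k = x k - φ (x (k + 1)) := rfl

/-- Derived completeness with respect to the endomorphism `φ`. -/
def Cmpl (φ : M →+ M) : Prop := Function.Bijective (sh φ)

lemma Cmpl.eq_zero {φ : M →+ M} (h : Cmpl φ) {x : ℕ → M} (hx : ∀ k, x k = φ (x (k + 1))) : x = 0 := by
  apply h.1
  ext k
  simp [← hx k]

lemma Cmpl.eq_of {φ : M →+ M} (h : Cmpl φ) {x y : ℕ → M}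
    (hxy : ∀ k, x k - φ (x (k + 1)) = y k - φ (y (k + 1))) : x = y := by
  apply h.1
  ext k
  exact hxy k

lemma Cmpl.exists_sol {φ : M →+ M} (h : Cmpl φ) (w : ℕ → M) : ∃ x : ℕ → M, ∀ k, x k = w k + φ (x (k + 1)) := by
  obtain ⟨x, hx⟩ := h.2 w
  refine ⟨x, fun k => ?_⟩
  rw [← congrFun hx k, sh_apply]
  abel

lemma cmpl_of {φ : M →+ M} (h1 : ∀ x : ℕ → M, (∀ k, x k = φ (x (k + 1))) → x = 0)
    (h2 : ∀ w : ℕ → M, ∃ x : ℕ → M, ∀ k, x k = w k + φ (x (k + 1))) : Cmpl φ := by
  constructor
  · rw [injective_iff_map_eq_zero]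
    intro x hx
    apply h1
    intro k
    have := congrFun hx k
    rw [sh_apply, Pi.zero_apply, sub_eq_zero] at this
    exact this
  · intro w
    obtain ⟨x, hx⟩ := h2 w
    refine ⟨x, ?_⟩
    ext k
    rw [sh_apply, hx k]
    abel

lemma pow_comm {φ ψ : M →+ M} (hc : ∀ x, φ (ψ x) = ψ (φ x)) (k : ℕ) (x : M) : φ (ψ^[k] x) = ψ^[k] (φ x) := by
  induction k generalizing x with
  | zero => rfl
  | succ k ih => rw [Function.iterate_succ_apply', hc, ih, Function.iterate_succ_apply']

/-- If `ψ` commutes with `φ` and `M` is `φ`-complete then it is `ψ φ`-complete. -/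
theorem Cmpl.comp {φ ψ : M →+ M} (h : Cmpl φ) (hc : ∀ x, φ (ψ x) = ψ (φ x)) : Cmpl (ψ.comp φ) := by
  have key : ∀ x : ℕ → M, (∀ k, x k = ψ (φ (x (k + 1)))) → x 0 = 0 := by
    intro x hx
    have : (fun k => ψ^[k] (x k)) = 0 := by
      apply h.eq_zero
      intro k
      try dsimp only
      rw [pow_comm hc, Function.iterate_succ_apply, ← hx k]
    exact congrFun this 0
  have hmap : ∀ (k : ℕ) (x y : M), ψ^[k] (x + y) = ψ^[k] x + ψ^[k] y := by
    intro k
    induction k with
    | zero => intro x y; rfl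
    | succ k ih => intro x y; rw [Function.iterate_succ_apply', ih, map_add, ← Function.iterate_succ_apply' ψ,
        ← Function.iterate_succ_apply' ψ]
  apply cmpl_of
  · intro x hx
    ext j
    have := key (fun k => x (j + k)) (fun k => hx (j + k))
    simpa using this
  · intro w
    choose y hy using fun j : ℕ => h.exists_sol (fun k => ψ^[k] (w (j + k)))
    have hshift : ∀ j, (fun k => y j (k + 1)) = fun k => ψ (y (j + 1) k) := by
      intro j
      apply h.eq_of
      intro k
      try dsimp only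
      rw [hy j (k + 1), hy (j + 1) k, map_add, hc, ← Function.iterate_succ_apply' ψ,
        show j + (k + 1) = j + 1 + k by omega]
      abel
    refine ⟨fun j => y j 0, fun j => ?_⟩
    try dsimp only
    rw [hy j 0]
    have := congrFun (hshift j) 0
    beta_reduce at this
    rw [this, hc]
    simp

/-- If `M` is `φ`-complete then `1 - φ` is bijective on `M`. -/
theorem Cmpl.bijective_one_sub {φ : M →+ M} (h : Cmpl φ) : Function.Bijective (fun x => x - φ x) := by
  constructor
  · intro x y hxy
    have : (fun _ : ℕ => x) = fun _ => y := h.eq_of (fun _ => hxy)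
    exact congrFun this 0
  · intro w
    obtain ⟨x, hx⟩ := h.exists_sol (fun _ => w)
    have hs : x = fun k => x (k + 1) := by
      apply h.eq_of
      intro k
      rw [hx k, hx (k + 1)]
      abel_nf
    refine ⟨x 0, ?_⟩
    try dsimp only
    have h1 : x 0 = x 1 := congrFun hs 0
    have h2 := hx 0
    rw [← h1] at h2
    exact sub_eq_iff_eq_add.mpr h2

/-- If `M` is `φ`-complete and `φ` is bijective on `M`, then `M = 0`. -/
theorem Cmpl.eq_zero_of_surjective {φ : M →+ M} (h : Cmpl φ) (hs : Function.Surjective φ) (m : M) : m = 0 := by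
  choose g hg using hs
  have : (fun k => g^[k] m) = 0 := by
    apply h.eq_zero
    intro k
    try dsimp only
    rw [Function.iterate_succ_apply', hg]
  exact congrFun this 0

/-- Transport along a bijection. -/
theorem Cmpl.of_equiv {N : Type w} [AddCommGroup N] {φ : M →+ M} {φ' : N →+ N} (e : M ≃+ N)
    (he : ∀ x, e (φ x) = φ' (e x)) (h : Cmpl φ) : Cmpl φ' := by
  apply cmpl_of
  · intro x hx
    have : (fun k => e.symm (x k)) = 0 := by
      apply h.eq_zero
      intro k
      try dsimp only
      apply e.injective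
      rw [he, e.apply_symm_apply, e.apply_symm_apply, ← hx k]
    ext k
    have := congrFun this k
    dsimp only [Pi.zero_apply] at this
    rw [Pi.zero_apply, ← e.apply_symm_apply (x k), this, map_zero]
  · intro w
    obtain ⟨x, hx⟩ := h.exists_sol (fun k => e.symm (w k))
    refine ⟨fun k => e (x k), fun k => ?_⟩
    try dsimp only
    rw [hx k, map_add, e.apply_symm_apply, he]

/-- Completeness of a kernel. -/
theorem Cmpl.ker {N : Type w} [AddCommGroup N] {φ : M →+ M} {φ' : N →+ N} (u : M →+ N)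
    (hu : ∀ x, u (φ x) = φ' (u x)) (h : Cmpl φ) (h' : Function.Injective (sh φ'))
    (ψ : u.ker →+ u.ker) (hψ : ∀ x, (ψ x : M) = φ x) : Cmpl ψ := by
  apply cmpl_of
  · intro x hx
    have : (fun k => (x k : M)) = 0 := by
      apply h.eq_zero
      intro k
      try dsimp only
      rw [← hψ, ← hx k]
    ext k
    exact congrFun this k
  · intro w
    obtain ⟨x, hx⟩ := h.exists_sol (fun k => (w k : M))
    have : (fun k => u (x k)) = 0 := by
      apply h'
      ext k
      rw [sh_apply, map_zero, Pi.zero_apply]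
      rw [hx k, map_add, (w k).2, hu, zero_add, sub_self]
    refine ⟨fun k => ⟨x k, congrFun this k⟩, fun k => ?_⟩
    apply Subtype.ext
    rw [AddSubgroup.coe_add, hψ]
    exact hx k

/-- Completeness of a cokernel. -/
theorem Cmpl.coker {N : Type w} [AddCommGroup N] {φ : M →+ M} {φ' : N →+ N} (u : M →+ N)
    (hu : ∀ x, u (φ x) = φ' (u x)) (h : Function.Surjective (sh φ)) (h' : Cmpl φ')
    {Q : Type w} [AddCommGroup Q] (p : N →+ Q) (hp : Function.Surjective p)
    (hk : ∀ y, p y = 0 ↔ ∃ x, u x = y) (ψ : Q →+ Q) (hψ : ∀ y, ψ (p y) = p (φ' y)) : Cmpl ψ := by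
  choose g hg using hp
  apply cmpl_of
  · intro x hx
    have h1 : ∀ k, ∃ m, u m = g (x k) - φ' (g (x (k + 1))) := by
      intro k
      rw [← hk, map_sub, hg, ← hψ, hg, ← hx k, sub_self]
    choose m hm using h1
    obtain ⟨z, hz⟩ := h m
    have : (fun k => g (x k)) = fun k => u (z k) := by
      apply h'.eq_of
      intro k
      try dsimp only
      rw [← hm k, ← hu, ← map_sub]
      rw [← congrFun hz k, sh_apply]
    ext k
    rw [← hg (x k), congrFun this k, Pi.zero_apply, hk]
    exact ⟨_, rfl⟩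
  · intro w
    obtain ⟨x, hx⟩ := h'.exists_sol (fun k => g (w k))
    refine ⟨fun k => p (x k), fun k => ?_⟩
    try dsimp only
    rw [hx k, map_add, hg, hψ]

end End

section Seq

variable {M : Type v} [AddCommGroup M]

/-- The endomorphism of the sequence group induced by an endomorphism. -/
def seqMap (φ : M →+ M) : (ℕ → M) →+ (ℕ → M) where
  toFun x k := φ (x k)
  map_zero' := by ext k; simp
  map_add' x y := by ext k; simp

@[simp] lemma seqMap_apply (φ : M →+ M) (x : ℕ → M) (k : ℕ) : seqMap φ x k = φ (x k) := rfl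

lemma Cmpl.seq {φ : M →+ M} (h : Cmpl φ) : Cmpl (seqMap φ) := by
  apply cmpl_of
  · intro x hx
    ext k j
    have : (fun k => x k j) = 0 := h.eq_zero (fun k => congrFun (hx k) j)
    exact congrFun this k
  · intro w
    choose x hx using fun j : ℕ => h.exists_sol (fun k => w k j)
    exact ⟨fun k j => x j k, fun k => funext fun j => hx j k⟩

/-- The left shift on sequences. -/
def sl (M : Type v) [AddCommGroup M] : (ℕ → M) →+ (ℕ → M) where
  toFun x k := x (k + 1)
  map_zero' := by ext k; simp
  map_add' x y := by ext k; simp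

@[simp] lemma sl_apply (x : ℕ → M) (k : ℕ) : sl M x k = x (k + 1) := rfl

/-- If `M` is complete for the commuting endomorphisms `φ` and `ψ` then it is complete for `φ + ψ`. -/
theorem Cmpl.add {φ ψ : M →+ M} (hφ : Cmpl φ) (hψ : Cmpl ψ) (hc : ∀ x, φ (ψ x) = ψ (φ x)) :
    Cmpl (φ + ψ) := by
  have hcφ : ∀ x, (φ + ψ) (φ x) = φ ((φ + ψ) x) := fun x => by
    rw [AddMonoidHom.add_apply, AddMonoidHom.add_apply, map_add, hc]
  have hcψ : ∀ x, (φ + ψ) (ψ x) = ψ ((φ + ψ) x) := fun x => by
    rw [AddMonoidHom.add_apply, AddMonoidHom.add_apply, map_add, hc]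
  have shφ : ∀ x, sh (φ + ψ) (seqMap φ x) = seqMap φ (sh (φ + ψ) x) := fun x => by
    ext k
    rw [sh_apply, seqMap_apply, seqMap_apply, seqMap_apply, sh_apply, map_sub, hcφ]
  have shψ : ∀ x, sh (φ + ψ) (seqMap ψ x) = seqMap ψ (sh (φ + ψ) x) := fun x => by
    ext k
    rw [sh_apply, seqMap_apply, seqMap_apply, seqMap_apply, sh_apply, map_sub, hcψ]
  have shsl : ∀ x, sh (φ + ψ) (sl M x) = sl M (sh (φ + ψ) x) := fun x => rfl
  have shh : ∀ x, sh (φ + ψ) (seqMap (φ + ψ) x) = seqMap (φ + ψ) (sh (φ + ψ) x) := fun x => by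
    ext k
    rw [sh_apply, seqMap_apply, seqMap_apply, seqMap_apply, sh_apply, map_sub]
  constructor
  · rw [injective_iff_map_eq_zero]
    intro x hx
    -- work in the kernel `N`
    let N := (sh (φ + ψ)).ker
    let φN : N →+ N := ((seqMap φ).comp N.subtype).codRestrict N (fun y => by
      change sh (φ + ψ) (seqMap φ y) = 0
      rw [shφ, show sh (φ + ψ) y = 0 from y.2, map_zero])
    let ψN : N →+ N := ((seqMap ψ).comp N.subtype).codRestrict N (fun y => by
      change sh (φ + ψ) (seqMap ψ y) = 0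
      rw [shψ, show sh (φ + ψ) y = 0 from y.2, map_zero])
    let S : N →+ N := ((sl M).comp N.subtype).codRestrict N (fun y => by
      change sh (φ + ψ) (sl M y) = 0
      rw [shsl, show sh (φ + ψ) y = 0 from y.2, map_zero])
    have cφ : Cmpl φN := Cmpl.ker (φ := seqMap φ) (φ' := seqMap φ) (sh (φ + ψ)) shφ hφ.seq hφ.seq.1 φN (fun _ => rfl)
    have cψ : Cmpl ψN := Cmpl.ker (φ := seqMap ψ) (φ' := seqMap ψ) (sh (φ + ψ)) shψ hψ.seq hψ.seq.1 ψN (fun _ => rfl)
    have c1 : Cmpl (S.comp φN) := cφ.comp (fun y => rfl)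
    have hs : Function.Surjective ψN := by
      intro y
      -- `y = h (S y)`; find `z` with `z - S φ z = S y`
      obtain ⟨z, hz⟩ := c1.bijective_one_sub.2 (S y)
      refine ⟨z, ?_⟩
      apply Subtype.ext
      funext k
      have e1 : (y : ℕ → M) k = (φ + ψ) ((y : ℕ → M) (k + 1)) := by
        have := congrFun y.2 k
        rw [sh_apply, Pi.zero_apply, sub_eq_zero] at this
        exact this
      have e2 : (z : ℕ → M) k - φ ((z : ℕ → M) (k + 1)) = (y : ℕ → M) (k + 1) :=
        congrFun (congrArg Subtype.val hz) k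
      have e3 : (z : ℕ → M) k = (φ + ψ) ((z : ℕ → M) (k + 1)) := by
        have := congrFun z.2 k
        rw [sh_apply, Pi.zero_apply, sub_eq_zero] at this
        exact this
      change ψ ((z : ℕ → M) k) = _
      rw [e1, ← e2, map_sub, hcφ, ← e3, AddMonoidHom.add_apply]
      abel
    have := cψ.eq_zero_of_surjective hs ⟨x, hx⟩
    exact congrArg Subtype.val this
  · let R := (sh (φ + ψ)).range
    let Q := (ℕ → M) ⧸ R
    have hkR : ∀ y : ℕ → M, (QuotientAddGroup.mk' R y) = 0 ↔ ∃ x, sh (φ + ψ) x = y := fun y => by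
      rw [QuotientAddGroup.mk'_apply, QuotientAddGroup.eq_zero_iff]
      exact AddMonoidHom.mem_range
    let lft (a : (ℕ → M) →+ (ℕ → M)) (ha : ∀ x, sh (φ + ψ) (a x) = a (sh (φ + ψ) x)) : Q →+ Q :=
      QuotientAddGroup.map R R a (by
        rintro _ ⟨x, rfl⟩
        exact ⟨a x, ha x⟩)
    let φQ := lft (seqMap φ) shφ
    let ψQ := lft (seqMap ψ) shψ
    let S := lft (sl M) shsl
    let hQ := lft (seqMap (φ + ψ)) shh
    have hsurj : Function.Surjective (QuotientAddGroup.mk' R) := QuotientAddGroup.mk'_surjective R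
    have cφ : Cmpl φQ := Cmpl.coker (φ := seqMap φ) (φ' := seqMap φ) (sh (φ + ψ)) shφ hφ.seq.2 hφ.seq
      (QuotientAddGroup.mk' R) hsurj hkR φQ (fun _ => rfl)
    have cψ : Cmpl ψQ := Cmpl.coker (φ := seqMap ψ) (φ' := seqMap ψ) (sh (φ + ψ)) shψ hψ.seq.2 hψ.seq
      (QuotientAddGroup.mk' R) hsurj hkR ψQ (fun _ => rfl)
    have c1 : Cmpl (S.comp φQ) := cφ.comp (fun y => by
      obtain ⟨y, rfl⟩ := hsurj y
      rfl)
    have eh : ∀ y : Q, y = hQ (S y) := by
      intro y
      obtain ⟨y, rfl⟩ := hsurj y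
      rw [← sub_eq_zero]
      change QuotientAddGroup.mk' R y - QuotientAddGroup.mk' R (seqMap (φ + ψ) (sl M y)) = 0
      rw [← map_sub, hkR]
      exact ⟨y, rfl⟩
    have hs : Function.Surjective ψQ := by
      intro y
      obtain ⟨z, hz⟩ := c1.bijective_one_sub.2 (S y)
      refine ⟨z, ?_⟩
      have e4 : ∀ w : Q, hQ w = φQ w + ψQ w := by
        intro w
        obtain ⟨w, rfl⟩ := hsurj w
        change QuotientAddGroup.mk' R (seqMap (φ + ψ) w) = QuotientAddGroup.mk' R (seqMap φ w) + QuotientAddGroup.mk' R (seqMap ψ w)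
        rw [← map_add]
        rfl
      have e5 : ∀ w : Q, hQ (S (φQ w)) = φQ w := fun w => (eh _).symm
      have e6 : hQ (z - S (φQ z)) = ψQ z := by
        rw [map_sub, e5, e4]
        abel
      rw [← e6]
      change hQ (z - (S.comp φQ) z) = y
      rw [show z - (S.comp φQ) z = S y from hz, ← eh]
    intro w
    rw [← AddMonoidHom.mem_range]
    have := cψ.eq_zero_of_surjective hs (QuotientAddGroup.mk' R w)
    rw [hkR] at this
    exact this

end Seq

section Module

variable {A : Type u} [CommRing A] (M : Type v) [AddCommGroup M] [Module A M]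

/-- Derived completeness of a module with respect to an element of the ring. -/
def Cmp (f : A) : Prop := Cmpl (DistribSMul.toAddMonoidHom M f)

variable {M}

lemma Cmp.eq_zero {f : A} (h : Cmp M f) {x : ℕ → M} (hx : ∀ k, x k = f • (x (k + 1))) : x = 0 :=
  Cmpl.eq_zero (φ := DistribSMul.toAddMonoidHom M f) h hx

lemma Cmp.exists_sol {f : A} (h : Cmp M f) (w : ℕ → M) : ∃ x : ℕ → M, ∀ k, x k = w k + f • (x (k + 1)) :=
  Cmpl.exists_sol (φ := DistribSMul.toAddMonoidHom M f) h w

lemma cmp_of {f : A} (h1 : ∀ x : ℕ → M, (∀ k, x k = f • (x (k + 1))) → x = 0)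
    (h2 : ∀ w : ℕ → M, ∃ x : ℕ → M, ∀ k, x k = w k + f • (x (k + 1))) : Cmp M f :=
  cmpl_of (φ := DistribSMul.toAddMonoidHom M f) h1 h2

lemma cmp_zero : Cmp M (0 : A) := by
  apply cmp_of
  · intro x hx
    ext k
    rw [hx k, zero_smul]
    rfl
  · intro w
    exact ⟨w, fun k => by rw [zero_smul, add_zero]⟩

lemma Cmp.mul {f : A} (h : Cmp M f) (g : A) : Cmp M (g * f) := by
  have := Cmpl.comp (φ := DistribSMul.toAddMonoidHom M f) (ψ := DistribSMul.toAddMonoidHom M g) h
    (fun x => smul_comm f g x)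
  unfold Cmp
  convert this using 1
  ext x
  exact mul_smul g f x

lemma Cmp.add {f g : A} (hf : Cmp M f) (hg : Cmp M g) : Cmp M (f + g) := by
  have := Cmpl.add (φ := DistribSMul.toAddMonoidHom M f) (ψ := DistribSMul.toAddMonoidHom M g) hf hg
    (fun x => smul_comm f g x)
  unfold Cmp
  convert this using 1
  ext x
  exact add_smul f g x

variable (A M) in
/-- The ideal of the elements for which a module is derived complete. -/
def cmpIdeal : Ideal A where
  carrier := {f | Cmp M f}
  add_mem' := Cmp.add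
  zero_mem' := cmp_zero
  smul_mem' g _ h := h.mul g

@[simp] lemma mem_cmpIdeal {f : A} : f ∈ cmpIdeal A M ↔ Cmp M f := Iff.rfl

lemma Cmp.of_linearEquiv {N : Type w} [AddCommGroup N] [Module A N] (e : M ≃ₗ[A] N) {f : A} (h : Cmp M f) :
    Cmp N f :=
  Cmpl.of_equiv e.toAddEquiv (fun x => e.map_smul f x) h

/-- If a power of `f` acts by zero then the module is `f`-complete. -/
lemma cmp_of_pow_smul_eq_zero {f : A} {n : ℕ} (h : ∀ x : M, f ^ n • x = 0) : Cmp M f := by
  apply cmp_of
  · intro x hx
    have : ∀ j k, x k = f ^ j • x (k + j) := by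
      intro j
      induction j with
      | zero => intro k; simp
      | succ j ih => intro k; rw [ih k, hx (k + j), smul_smul, ← pow_succ, add_assoc]
    ext k
    rw [this n k, h]
    rfl
  · intro w
    refine ⟨fun k => ∑ j ∈ Finset.range n, f ^ j • w (k + j), fun k => ?_⟩
    rw [Finset.smul_sum]
    have e1 : ∀ j, f • f ^ j • w (k + 1 + j) = f ^ (j + 1) • w (k + (j + 1)) := fun j => by
      rw [smul_smul, ← pow_succ', show k + 1 + j = k + (j + 1) by omega]
    simp_rw [e1]
    have e2 := Finset.sum_range_succ' (fun j => f ^ j • w (k + j)) n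
    rw [Finset.sum_range_succ, h, add_zero] at e2
    rw [e2]
    simp only [pow_zero, one_smul, add_zero]
    abel

end Module

end K780.ShiftAlg
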