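import Groth.Agent.DerComp.K780.ShiftStep
import Mathlib.Algebra.Module.Shrink

/-!
# Noetherian-like modules in an arbitrary universe

`NL A N`: `N` is `A`-linearly isomorphic to a Noetherian-like module in the universe of `A`.
-/

set_option autoImplicit false

universe u v w

namespace K780.ShiftAlg

variable {A : Type u} [CommRing A]

/-- `N` is isomorphic to a Noetherian-like `A`-module (in the universe of `A`). -/
def NL (A : Type u) [CommRing A] (N : Type v) [AddCommGroup N] [Module A N] : Prop :=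
  ∃ (M : Type u) (_ : AddCommGroup M) (_ : Module A M), NoethLike A M ∧ Nonempty (M ≃ₗ[A] N)

variable {N : Type v} [AddCommGroup N] [Module A N] {M : Type w} [AddCommGroup M] [Module A M]

lemma NL.of_linearEquiv (h : NL A M) (e : M ≃ₗ[A] N) : NL A N := by
  obtain ⟨M', _, _, h1, ⟨e'⟩⟩ := h
  exact ⟨M', inferInstance, inferInstance, h1, ⟨e'.trans e⟩⟩

lemma Bdd.of_linearEquiv {f : A} (h : Bdd M f) (e : M ≃ₗ[A] N) : Bdd N f := by
  obtain ⟨c, hc⟩ := h
  refine ⟨c, fun k x hx => ?_⟩
  have h1 : f ^ k • e.symm x = 0 := by rw [← map_smul, hx, map_zero]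
  have h2 := hc k _ h1
  rw [← e.apply_symm_apply x, ← map_smul, h2, map_zero]

lemma NL.bdd (h : NL A N) (f : A) : Bdd N f := by
  obtain ⟨M', _, _, h1, ⟨e'⟩⟩ := h
  exact (h1.bdd f).of_linearEquiv e'

lemma NL.of_finite [IsNoetherianRing A] [Module.Finite A N] : NL A N := by
  obtain ⟨n, f, hf⟩ := Module.Finite.exists_fin' A N
  have e := LinearMap.quotKerEquivOfSurjective f hf
  refine ⟨(Fin n → A) ⧸ LinearMap.ker f, inferInstance, inferInstance, noethLike_of_finite, ⟨e⟩⟩

lemma Good.of_equiv {M' : Type*} {N' : Type*} [AddCommGroup M'] [Module A M'] [AddCommGroup N'] [Module A N']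
    {I : Ideal A} {α : M →ₗ[A] N} (h : Good I α) {α' : M' →ₗ[A] N'} (e : M ≃ₗ[A] M') (e' : N ≃ₗ[A] N')
    (hc : ∀ x, α' (e x) = e' (α x)) : Good I α' := fun n => by
  refine ⟨fun y => ?_, fun x hx => ?_⟩
  · obtain ⟨x, hx⟩ := (h n).1 (e'.symm y)
    refine ⟨e x, ?_⟩
    have := Good.map_mem e'.toLinearMap _ hx
    rw [hc]
    simpa using this
  · have h1 := Good.map_mem e'.symm.toLinearMap _ hx
    have h2 : e'.symm.toLinearMap (α' x) = α (e.symm x) := by
      apply e'.injective
      change e' (e'.symm (α' x)) = _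
      rw [e'.apply_symm_apply, ← hc, e.apply_symm_apply]
    rw [h2] at h1
    have h3 := Good.map_mem e.toLinearMap _ ((h n).2 _ h1)
    simpa using h3

lemma isAdicComplete_of_equiv {I : Ideal A} (h : IsAdicComplete I M) (e : M ≃ₗ[A] N) : IsAdicComplete I N := by
  have hm : ∀ (x y : N) (n : ℕ), x ≡ y [SMOD (I ^ n • ⊤ : Submodule A N)] ↔
      e.symm x ≡ e.symm y [SMOD (I ^ n • ⊤ : Submodule A M)] := fun x y n => by
    rw [SModEq.sub_mem, SModEq.sub_mem, ← map_sub]
    constructor
    · intro h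
      exact Good.map_mem e.symm.toLinearMap _ h
    · intro h
      have := Good.map_mem e.toLinearMap _ h
      simpa using this
  refine { toIsHausdorff := ⟨fun x hx => ?_⟩, toIsPrecomplete := ⟨fun x hx => ?_⟩ }
  · have h1 : e.symm x = 0 := h.toIsHausdorff.haus _ fun n => by
      have := (hm x 0 n).1 (hx n)
      rwa [map_zero] at this
    rw [← e.apply_symm_apply x, h1, map_zero]
  · obtain ⟨L, hL⟩ := h.toIsPrecomplete.prec (f := fun n => e.symm (x n)) fun hmn => (hm _ _ _).1 (hx hmn)
    refine ⟨e L, fun n => (hm _ _ _).2 ?_⟩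
    rw [e.symm_apply_apply]
    exact hL n

/-- `Noetherian-like` modules are stable under completion. -/
theorem NL.of_good (h : NL A M) {f : A} {α : M →ₗ[A] N} (hα : Good (Ideal.span {f}) α)
    (hN : IsAdicComplete (Ideal.span {f}) N) : NL A N := by
  obtain ⟨M', _, _, h1, ⟨e'⟩⟩ := h
  have hα' : Good (Ideal.span {f}) (α.comp e'.toLinearMap) :=
    hα.of_equiv e'.symm (LinearEquiv.refl A N) fun x => by simp
  let e'' : AdicCompletion (Ideal.span {f}) M' ≃ₗ[A] N := hα'.equiv
  have hβ : Good (Ideal.span {f}) (e''.symm.toLinearMap.comp (α.comp e'.toLinearMap)) :=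
    hα'.of_equiv (LinearEquiv.refl A M') e''.symm fun x => rfl
  have h2 : IsAdicComplete (Ideal.span {f}) (AdicCompletion (Ideal.span {f}) M') :=
    isAdicComplete_of_equiv hN e''.symm
  exact ⟨_, _, _, h1.of_good hβ, ⟨e''⟩⟩

/-- A Noetherian-like module which is derived complete for generators of `I` is `I`-adically complete. -/
theorem NL.isAdicComplete (h : NL A N) {ι : Type*} [Fintype ι] (g : ι → A) (hg : ∀ i, Cmp N (g i)) :
    IsAdicComplete (Ideal.span (Set.range g)) N := by
  obtain ⟨M', _, _, h1, ⟨e'⟩⟩ := h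
  exact isAdicComplete_of_equiv (h1.isAdicComplete g fun i => (hg i).of_linearEquiv e'.symm) e'

end K780.ShiftAlg
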