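import Groth.Agent.DerComp.K780.ShiftAdic

/-!
# The algebra of one derived completion step

For a `Step` (the exact sequence `T₀ → M → N → T₁ → P` with `f` surjective on `T₀` and bijective on `T₁`) and modules
`M`, `P` with bounded `f`-torsion: `M / fⁿ ≃ N / fⁿ`, and if `N` is `f`-complete then `N` is the `f`-adic completion
of `M`.  `NoethLike`: finite over a Noetherian algebra; stable under completion.
-/

universe u v w

namespace K780.ShiftAlg

open Submodule

variable {A : Type u} [CommRing A]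

section Step

variable {T₀ M N T₁ P : Type*} [AddCommGroup T₀] [Module A T₀] [AddCommGroup M] [Module A M]
    [AddCommGroup N] [Module A N] [AddCommGroup T₁] [Module A T₁] [AddCommGroup P] [Module A P]
    {a : T₀ →ₗ[A] M} {α : M →ₗ[A] N} {δ : N →ₗ[A] T₁} {b : T₁ →ₗ[A] P} {f : A}

lemma exists_eq_pow_smul {T : Type*} [AddCommGroup T] [Module A T] {f : A} (h : ∀ t : T, ∃ t', t = f • t')
    (k : ℕ) (t : T) : ∃ t', t = f ^ k • t' := by
  induction k generalizing t with
  | zero => exact ⟨t, by simp⟩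
  | succ k ih =>
    obtain ⟨t1, h1⟩ := ih t
    obtain ⟨t2, h2⟩ := h t1
    exact ⟨t2, by rw [h1, h2, smul_smul, ← pow_succ]⟩

lemma Step.surj₁ (h : Step a α δ b f) (t : T₁) : ∃ t', t = f • t' := by
  obtain ⟨t', ht'⟩ := h.bij.2 t
  exact ⟨t', ht'.symm⟩

lemma Step.eq_zero_of_pow (h : Step a α δ b f) {k : ℕ} {t : T₁} (ht : f ^ k • t = 0) : t = 0 := by
  induction k with
  | zero => simpa using ht
  | succ k ih =>
    apply ih
    rw [pow_succ', mul_smul] at ht
    exact h.bij.1 (by simpa using ht)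

lemma Step.exists_decomp (h : Step a α δ b f) (hP : Bdd P f) (k : ℕ) (y : N) :
    ∃ (x : M) (y' : N), y = α x + f ^ k • y' := by
  obtain ⟨c, hc⟩ := hP
  -- `δ y = f^(k+c) t = f^k (f^c t)` with `b (f^c t) = 0`
  obtain ⟨t, ht⟩ := exists_eq_pow_smul h.surj₁ (k + c) (δ y)
  have h1 : f ^ (k + c) • b t = 0 := by
    rw [← map_smul, ← ht]
    exact h.ex3.apply_apply_eq_zero y
  have h2 : b (f ^ c • t) = 0 := by
    rw [map_smul]
    exact hc _ _ h1
  obtain ⟨y', hy'⟩ := (h.ex3 _).1 h2
  have h3 : δ (y - f ^ k • y') = 0 := by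
    rw [map_sub, map_smul, hy', smul_smul, ← pow_add, ← ht, sub_self]
  obtain ⟨x, hx⟩ := (h.ex2 _).1 h3
  exact ⟨x, y', by rw [hx]; abel⟩

lemma Step.exists_eq_pow_smul (h : Step a α δ b f) (k : ℕ) {x : M} {y : N} (hxy : α x = f ^ k • y) :
    ∃ x', x = f ^ k • x' := by
  have h1 : δ y = 0 := by
    apply h.eq_zero_of_pow (k := k)
    rw [← map_smul, ← hxy]
    exact h.ex2.apply_apply_eq_zero x
  obtain ⟨x', hx'⟩ := (h.ex2 _).1 h1
  have h2 : α (x - f ^ k • x') = 0 := by
    rw [map_sub, map_smul, hx', hxy, sub_self]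
  obtain ⟨t, ht⟩ := (h.ex1 _).1 h2
  obtain ⟨t', ht'⟩ := K780.ShiftAlg.exists_eq_pow_smul h.surj k t
  refine ⟨x' + a t', ?_⟩
  rw [smul_add, ← map_smul, ← ht', ht]
  abel

lemma Step.good (h : Step a α δ b f) (hP : Bdd P f) : Good (Ideal.span {f}) α := fun n => by
  refine ⟨fun y => ?_, fun x hx => ?_⟩
  · obtain ⟨x, y', hy⟩ := h.exists_decomp hP n y
    refine ⟨x, ?_⟩
    rw [mem_span_pow]
    exact ⟨-y', by rw [hy]; simp⟩
  · rw [mem_span_pow] at hx ⊢
    obtain ⟨y, hy⟩ := hx
    exact h.exists_eq_pow_smul n hy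

lemma Step.bdd (h : Step a α δ b f) (hM : Bdd M f) : Bdd N f := by
  obtain ⟨c, hc⟩ := hM
  refine ⟨c, fun k y hy => ?_⟩
  have h1 : δ y = 0 := by
    apply h.eq_zero_of_pow (k := k)
    rw [← map_smul, hy, map_zero]
  obtain ⟨x, rfl⟩ := (h.ex2 _).1 h1
  have h2 : α (f ^ k • x) = 0 := by rw [map_smul, hy]
  obtain ⟨t, ht⟩ := (h.ex1 _).1 h2
  obtain ⟨t', ht'⟩ := K780.ShiftAlg.exists_eq_pow_smul h.surj k t
  have h3 : f ^ k • (x - a t') = 0 := by
    rw [smul_sub, ← map_smul, ← ht', ht, sub_self]
  have h4 := hc _ _ h3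
  have h5 : α (a t') = 0 := h.ex1.apply_apply_eq_zero t'
  calc f ^ c • α x = α (f ^ c • (x - a t')) + f ^ c • α (a t') := by
        rw [map_smul, map_sub, smul_sub]; abel
    _ = 0 := by rw [h4, h5, map_zero, smul_zero, add_zero]

end Step

section Adic

variable {N : Type v} [AddCommGroup N] [Module A N] {f : A}

/-- Derived `f`-completeness and bounded torsion give `f`-adic separatedness. -/
lemma Cmp.hausdorff (h : Cmp N f) (hb : Bdd N f) {x : N} (hx : ∀ k, ∃ y, x = f ^ k • y) : x = 0 := by
  obtain ⟨c, hc⟩ := hb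
  choose y hy using hx
  have h1 : ∀ k, f ^ c • y k = f • (f ^ c • y (k + 1)) := by
    intro k
    have h2 : f ^ k • (y k - f • y (k + 1)) = 0 := by
      rw [smul_sub, smul_smul, ← pow_succ, ← hy, ← hy, sub_self]
    have h3 := hc _ _ h2
    rw [smul_sub, sub_eq_zero] at h3
    rw [h3, smul_comm]
  have h4 := congrFun (h.eq_zero h1) c
  dsimp only [Pi.zero_apply] at h4
  rw [hy c, h4]

lemma exists_sum_of_mem {ι : Type*} [Fintype ι] (g : ι → A) {x : N}
    (hx : x ∈ (Ideal.span (Set.range g) • ⊤ : Submodule A N)) : ∃ w : ι → N, x = ∑ i, g i • w i := by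
  refine Submodule.smul_induction_on (p := fun x => ∃ w : ι → N, x = ∑ i, g i • w i) hx ?_ ?_
  · intro r hr n _
    obtain ⟨c, rfl⟩ := (Ideal.mem_span_range_iff_exists_fun).1 hr
    refine ⟨fun i => c i • n, ?_⟩
    rw [Finset.sum_smul]
    exact Finset.sum_congr rfl fun i _ => by rw [smul_smul, mul_comm]
  · rintro x y ⟨w, rfl⟩ ⟨w', rfl⟩
    exact ⟨fun i => w i + w' i, by simp [smul_add, Finset.sum_add_distrib]⟩

/-- Derived completeness for generators of `I` gives precompleteness. -/
theorem isPrecomplete_of_cmp {ι : Type*} [Fintype ι] (g : ι → A) (h : ∀ i, Cmp N (g i)) :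
    IsPrecomplete (Ideal.span (Set.range g)) N := by
  classical
  set I := Ideal.span (Set.range g) with hI
  have hle : ∀ k : ℕ, ∃ m, I ^ m ≤ Ideal.span (Set.range fun i => g i ^ k) := by
    intro k
    apply Ideal.exists_pow_le_of_le_radical_of_fg
    · rw [hI, Ideal.span_le]
      rintro _ ⟨i, rfl⟩
      exact Ideal.mem_radical_iff.2 ⟨k, Ideal.subset_span (Set.mem_range_self i)⟩
    · exact ⟨Finset.univ.image g, by rw [Finset.coe_image, Finset.coe_univ, Set.image_univ]⟩
  have hle' : ∀ k : ℕ, Ideal.span (Set.range fun i => g i ^ k) ≤ I ^ k := by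
    intro k
    rw [Ideal.span_le]
    rintro _ ⟨i, rfl⟩
    exact Ideal.pow_mem_pow (Ideal.subset_span (Set.mem_range_self i)) k
  choose m hm using hle
  let m' : ℕ → ℕ := fun k => (∑ j ∈ Finset.range (k + 1), m j) + k
  have hm'1 : ∀ k, m k ≤ m' k := fun k => by
    have : m k ≤ ∑ j ∈ Finset.range (k + 1), m j := Finset.single_le_sum (fun _ _ => Nat.zero_le _)
      (Finset.mem_range.2 (Nat.lt_succ_self k))
    exact this.trans (Nat.le_add_right _ _)
  have hm'2 : ∀ k, k ≤ m' k := fun k => Nat.le_add_left _ _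
  have hm'3 : ∀ k, m' k ≤ m' (k + 1) := fun k => by
    simp only [m']
    rw [Finset.sum_range_succ _ (k + 1)]
    omega
  refine ⟨fun x hx => ?_⟩
  have hx1 : ∀ k, ∃ w : ι → N, x (m' (k + 1)) - x (m' k) = ∑ i, g i ^ k • w i := by
    intro k
    apply exists_sum_of_mem
    have h1 := (SModEq.sub_mem).1 (hx (hm'3 k)).symm
    have h2 : (I ^ (m' k) • ⊤ : Submodule A N) ≤ Ideal.span (Set.range fun i => g i ^ k) • ⊤ :=
      smul_mono ((Ideal.pow_le_pow_right (hm'1 k)).trans (hm k)) le_rfl
    exact h2 h1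
  choose w hw using hx1
  choose v hv using fun i => (h i).exists_sol (fun k => w k i)
  have key : ∀ k, x (m' 0) + ∑ i, v i 0 - x (m' k) = ∑ i, g i ^ k • v i k := by
    intro k
    induction k with
    | zero => simp
    | succ k ih =>
      have e1 : x (m' 0) + ∑ i, v i 0 - x (m' (k + 1)) =
          (x (m' 0) + ∑ i, v i 0 - x (m' k)) - (x (m' (k + 1)) - x (m' k)) := by abel
      rw [e1, ih, hw k, ← Finset.sum_sub_distrib]
      refine Finset.sum_congr rfl fun i _ => ?_
      rw [← smul_sub, hv i k, add_sub_cancel_left, smul_smul, ← pow_succ]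
  refine ⟨x (m' 0) + ∑ i, v i 0, fun n => ?_⟩
  refine (hx (hm'2 n)).trans ?_
  rw [SModEq.sub_mem, ← neg_mem_iff, neg_sub, key n]
  refine sum_mem fun i _ => ?_
  exact smul_mem_smul (hle' n (Ideal.subset_span (Set.mem_range_self i))) trivial

/-- Derived `f`-completeness and bounded torsion give `f`-adic completeness. -/
theorem Cmp.isAdicComplete (h : Cmp N f) (hb : Bdd N f) : IsAdicComplete (Ideal.span {f}) N := by
  have h1 : IsPrecomplete (Ideal.span {f}) N := by
    have := isPrecomplete_of_cmp (fun _ : Unit => f) (fun _ => h)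
    rwa [Set.range_const] at this
  have h2 : IsHausdorff (Ideal.span {f}) N := by
    refine ⟨fun x hx => ?_⟩
    apply h.hausdorff hb
    intro k
    have := hx k
    rw [SModEq.sub_mem, sub_zero, mem_span_pow] at this
    exact this
  exact { toIsHausdorff := h2, toIsPrecomplete := h1 }

/-- Conversely an `I`-adically complete module is derived `f`-complete for `f ∈ I`. -/
theorem cmp_of_isAdicComplete (I : Ideal A) [IsAdicComplete I N] (hf : f ∈ I) : Cmp N f := by
  apply cmp_of
  · intro x hx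
    have hj : ∀ j k, x k = f ^ j • x (k + j) := by
      intro j
      induction j with
      | zero => intro k; simp
      | succ j ih => intro k; rw [ih k, hx (k + j), smul_smul, ← pow_succ, add_assoc]
    ext k
    refine IsHausdorff.haus (I := I) inferInstance _ fun n => ?_
    rw [SModEq.sub_mem, sub_zero, hj n k]
    exact smul_mem_smul (Ideal.pow_mem_pow hf n) trivial
  · intro w
    -- `x k = ∑ j, f^j w (k+j)`
    have hc : ∀ k, ∃ L : N, ∀ n, (∑ j ∈ Finset.range n, f ^ j • w (k + j)) ≡ L [SMOD (I ^ n • ⊤ : Submodule A N)] := by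
      intro k
      apply IsPrecomplete.prec (I := I) inferInstance
      intro m n hmn
      rw [SModEq.sub_mem, ← neg_mem_iff, neg_sub, ← Finset.sum_Ico_eq_sub _ hmn]
      refine sum_mem fun j hj => ?_
      exact smul_mem_smul (Ideal.pow_le_pow_right (Finset.mem_Ico.1 hj).1 (Ideal.pow_mem_pow hf j)) trivial
    choose x hx using hc
    refine ⟨x, fun k => ?_⟩
    rw [← sub_eq_zero]
    refine IsHausdorff.haus (I := I) inferInstance _ fun n => ?_
    rw [SModEq.sub_mem, sub_zero]
    have e1 := (SModEq.sub_mem).1 (hx k (n + 1))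
    have e2 := (SModEq.sub_mem).1 (hx (k + 1) n)
    have e3 : (∑ j ∈ Finset.range (n + 1), f ^ j • w (k + j)) =
        w k + f • ∑ j ∈ Finset.range n, f ^ j • w (k + 1 + j) := by
      rw [Finset.sum_range_succ', Finset.smul_sum, add_comm]
      congr 1
      · simp
      · refine Finset.sum_congr rfl fun j _ => ?_
        rw [smul_smul, ← pow_succ', show k + 1 + j = k + (j + 1) by omega]
    have e4 : ((∑ j ∈ Finset.range (n + 1), f ^ j • w (k + j)) - x k) ∈ (I ^ n • ⊤ : Submodule A N) :=
      smul_mono (Ideal.pow_le_pow_right (Nat.le_succ n)) le_rfl e1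
    have e5 := sub_mem (Submodule.smul_mem _ f e2) e4
    rw [e3] at e5
    convert e5 using 1
    rw [smul_sub]
    abel

end Adic

section Noeth

/-- Finite over a Noetherian algebra. -/
def NoethLike (A : Type u) [CommRing A] (N : Type u) [AddCommGroup N] [Module A N] : Prop :=
  ∃ (B : Type u) (_ : CommRing B) (_ : Algebra A B) (_ : IsNoetherianRing B) (_ : Module B N),
    IsScalarTower A B N ∧ Module.Finite B N

variable {N : Type u} [AddCommGroup N] [Module A N] {M : Type u} [AddCommGroup M] [Module A M]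

lemma noethLike_of_finite [IsNoetherianRing A] [Module.Finite A N] : NoethLike A N :=
  ⟨A, inferInstance, inferInstance, inferInstance, inferInstance, inferInstance, inferInstance⟩

lemma NoethLike.of_linearEquiv (h : NoethLike A M) (e : M ≃ₗ[A] N) : NoethLike A N := by
  obtain ⟨B, _, _, _, _, _, _⟩ := h
  let _ : Module B N := AddEquiv.module B e.symm.toAddEquiv
  have hs : ∀ (b : B) (n : N), b • n = e (b • e.symm n) := fun b n => rfl
  have hsm : ∀ (b : B) (m : M), e (b • m) = b • e m := fun b m => by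
    rw [hs, e.symm_apply_apply]
  refine ⟨B, inferInstance, inferInstance, inferInstance, inferInstance, ⟨fun a b n => ?_⟩, ?_⟩
  · change e ((a • b) • e.symm n) = a • e (b • e.symm n)
    rw [smul_assoc, map_smul]
  · let e' : M ≃ₗ[B] N := AddEquiv.toLinearEquiv e.toAddEquiv hsm
    exact Module.Finite.equiv e'

lemma NoethLike.bdd (h : NoethLike A N) (f : A) : Bdd N f := by
  obtain ⟨B, _, _, _, _, _, _⟩ := h
  have hN : IsNoetherian B N := inferInstance
  let K : ℕ →o Submodule B N :=
    { toFun := fun k => LinearMap.ker ((algebraMap A B f) ^ k • (LinearMap.id : N →ₗ[B] N))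
      monotone' := monotone_nat_of_le_succ fun k x hx => by
        rw [LinearMap.mem_ker, LinearMap.smul_apply, LinearMap.id_apply] at hx ⊢
        rw [pow_succ', mul_smul, hx, smul_zero] }
  obtain ⟨c, hc⟩ := monotone_stabilizes_iff_noetherian.2 hN K
  have hK : ∀ (k : ℕ) (x : N), x ∈ K k ↔ f ^ k • x = 0 := fun k x => by
    change (algebraMap A B f) ^ k • x = 0 ↔ _
    rw [← map_pow, algebraMap_smul]
  refine ⟨c, fun k x hx => ?_⟩
  rw [← hK] at hx ⊢
  rcases le_total k c with h1 | h1
  · exact K.monotone h1 hx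
  · rwa [hc k h1]

lemma finite_adicCompletion (B : Type u) [CommRing B] [IsNoetherianRing B] [Module B M] [Module.Finite B M]
    (J : Ideal B) : Module.Finite (AdicCompletion J B) (AdicCompletion J M) :=
  Module.Finite.of_surjective (AdicCompletion.ofTensorProduct J M)
    (AdicCompletion.ofTensorProduct_surjective_of_finite J M)

/-- `Noetherian-like` modules are stable under completion. -/
theorem NoethLike.of_good (h : NoethLike A M) {f : A} {α : M →ₗ[A] N} (hα : Good (Ideal.span {f}) α)
    [hN : IsAdicComplete (Ideal.span {f}) N] : NoethLike A N := by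
  obtain ⟨B, _, _, _, _, _, _⟩ := h
  set J : Ideal B := (Ideal.span {f}).map (algebraMap A B) with hJ
  have hJfg : J.FG := IsNoetherian.noetherian J
  have h1 : IsAdicComplete J (AdicCompletion J M) := AdicCompletion.isAdicComplete hJfg
  have h2 : IsAdicComplete (Ideal.span {f}) (AdicCompletion J M) := (IsAdicComplete.map_algebraMap_iff _ _).1 h1
  let β : M →ₗ[A] AdicCompletion J M := (AdicCompletion.of J M).restrictScalars A
  have hres : ∀ (K : Type u) [AddCommGroup K] [Module A K] [Module B K] [IsScalarTower A B K] (n : ℕ) (x : K),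
      x ∈ (J ^ n • ⊤ : Submodule B K) ↔ x ∈ (Ideal.span {f} ^ n • ⊤ : Submodule A K) := by
    intro K _ _ _ _ n x
    rw [hJ, ← Ideal.map_pow, ← Submodule.restrictScalars_mem A, Submodule.restrictScalars_map_smul_eq]
    rfl
  have hβ : Good (Ideal.span {f}) β := fun n => by
    refine ⟨fun y => ?_, fun x hx => ?_⟩
    · obtain ⟨x, hx⟩ := Submodule.mkQ_surjective _ (AdicCompletion.eval J M n y)
      refine ⟨x, ?_⟩
      rw [← hres, AdicCompletion.pow_smul_top_eq_ker_eval hJfg, LinearMap.mem_ker, map_sub, ← hx]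
      exact sub_self _
    · rw [← hres, AdicCompletion.pow_smul_top_eq_ker_eval hJfg, LinearMap.mem_ker] at hx
      rw [← hres]
      rw [← Submodule.Quotient.mk_eq_zero]
      exact hx
  let e : N ≃ₗ[A] AdicCompletion J M := hα.equiv.symm.trans hβ.equiv
  have h3 : NoethLike A (AdicCompletion J M) := by
    refine ⟨AdicCompletion J B, inferInstance, inferInstance,
      Groth.Agent.Ega4A.CompleteNoeth.isNoetherianRing_adicCompletion J, inferInstance, ⟨fun a r x => ?_⟩,
      finite_adicCompletion B J⟩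
    rw [← algebraMap_smul B a r, ← algebraMap_smul B a (r • x), smul_assoc]
  exact h3.of_linearEquiv e.symm

/-- A Noetherian-like module which is derived complete for generators of `I` is `I`-adically complete. -/
theorem NoethLike.isAdicComplete (h : NoethLike A N) {ι : Type*} [Fintype ι] (g : ι → A) (hg : ∀ i, Cmp N (g i)) :
    IsAdicComplete (Ideal.span (Set.range g)) N := by
  have h1 := isPrecomplete_of_cmp g hg
  refine { toIsHausdorff := ?_, toIsPrecomplete := h1 }
  obtain ⟨B, _, _, _, _, _, _⟩ := h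
  rw [← IsHausdorff.map_algebraMap_iff (S := B)]
  set J : Ideal B := (Ideal.span (Set.range g)).map (algebraMap A B) with hJ
  have hcmp : ∀ a : A, Cmp N a → Cmp N (algebraMap A B a) := fun a ha => by
    apply cmp_of
    · intro x hx
      exact ha.eq_zero (fun k => by rw [hx k, algebraMap_smul])
    · intro w
      obtain ⟨x, hx⟩ := ha.exists_sol w
      exact ⟨x, fun k => by rw [algebraMap_smul]; exact hx k⟩
  have hJ' : J ≤ cmpIdeal B N := by
    rw [hJ, Ideal.map_span, Ideal.span_le]
    rintro _ ⟨_, ⟨i, rfl⟩, rfl⟩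
    exact hcmp _ (hg i)
  refine ⟨fun x hx => ?_⟩
  have hx' : x ∈ (⨅ i : ℕ, J ^ i • ⊤ : Submodule B N) := by
    rw [Submodule.mem_iInf]
    intro i
    have := hx i
    rwa [SModEq.sub_mem, sub_zero] at this
  obtain ⟨r, hr⟩ := (Ideal.mem_iInf_smul_pow_eq_bot_iff J x).1 hx'
  have h4 : Cmp N (r : B) := hJ' r.2
  exact congrFun (h4.eq_zero (x := fun _ => x) (fun _ => hr.symm)) 0

end Noeth

end K780.ShiftAlg
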