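import Groth.Agent.DerComp.K780.ShiftStep
import Mathlib.CategoryTheory.Triangulated.Yoneda
import Mathlib.CategoryTheory.Triangulated.Triangulated
import Mathlib.CategoryTheory.Linear.LinearFunctor
import Mathlib.CategoryTheory.Limits.Shapes.Products

/-!
# Single-section derived completion in a linear pretriangulated category with countable products

For `s` in the base ring and an object `K`, `T(K,s) → ∏ K → ∏ K` is the fibre of `id - s · shift` and
`K_s^ = cone (T(K,s) → K)`.
-/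

set_option autoImplicit false

universe v u w

open CategoryTheory CategoryTheory.Limits Pretriangulated

namespace K780.Tele

open K780.ShiftAlg

variable {R : Type w} [CommRing R] {T : Type u} [Category.{v} T] [Preadditive T] [Linear R T]

set_option linter.unusedSectionVars false

section Prod

variable (s : R) (K : T) [HasProduct fun _ : ℕ => K]

/-- The identity minus `s` times the shift. -/
noncomputable def dm : (∏ᶜ fun _ : ℕ => K) ⟶ ∏ᶜ fun _ : ℕ => K :=
  Pi.lift fun n => Pi.π (fun _ : ℕ => K) n - Pi.π (fun _ : ℕ => K) (n + 1) ≫ (s • 𝟙 K)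

/-- The shift. -/
noncomputable def S : (∏ᶜ fun _ : ℕ => K) ⟶ ∏ᶜ fun _ : ℕ => K :=
  Pi.lift fun n => Pi.π (fun _ : ℕ => K) (n + 1)

variable {K}

@[reassoc (attr := simp)]
lemma dm_π (n : ℕ) : dm s K ≫ Pi.π _ n = Pi.π (fun _ : ℕ => K) n - s • Pi.π (fun _ : ℕ => K) (n + 1) := by
  simp [dm]

@[reassoc (attr := simp)]
lemma S_π (n : ℕ) : S K ≫ Pi.π _ n = Pi.π (fun _ : ℕ => K) (n + 1) := by
  simp [S]

lemma dm_eq : dm s K = 𝟙 _ - s • S K := by
  apply Pi.hom_ext
  intro n
  simp [Preadditive.sub_comp]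

lemma dm_S : dm s K ≫ S K = S K ≫ dm s K := by
  rw [dm_eq]
  simp [Preadditive.sub_comp, Preadditive.comp_sub]

/-- Morphisms to the product are sequences. -/
noncomputable def seqEquiv (X : T) : (X ⟶ ∏ᶜ fun _ : ℕ => K) ≃ₗ[R] (ℕ → (X ⟶ K)) where
  toFun φ n := φ ≫ Pi.π _ n
  invFun x := Pi.lift x
  map_add' φ ψ := by ext n; simp
  map_smul' r φ := by ext n; simp
  left_inv φ := by
    apply Pi.hom_ext
    intro n
    simp
  right_inv x := by
    ext n
    simp

variable (R) in
@[simp] lemma seqEquiv_apply (X : T) (φ : X ⟶ ∏ᶜ fun _ : ℕ => K) (n : ℕ) :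
    seqEquiv (R := R) X φ n = φ ≫ Pi.π _ n := rfl

lemma seqEquiv_dm (X : T) (φ : X ⟶ ∏ᶜ fun _ : ℕ => K) (n : ℕ) :
    seqEquiv (R := R) X (φ ≫ dm s K) n = seqEquiv (R := R) X φ n - s • seqEquiv (R := R) X φ (n + 1) := by
  simp [Preadditive.comp_sub]

/-- `K` is derived complete with respect to `s`. -/
def IsCompl (s : R) (K : T) : Prop := ∀ X : T, Cmp (X ⟶ K) s

lemma isCompl_of_isIso_dm [IsIso (dm s K)] : IsCompl s K := by
  intro X
  apply cmp_of
  · intro x hx
    have : (seqEquiv (R := R) X).symm x ≫ dm s K = 0 := by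
      apply (seqEquiv (R := R) X).injective
      ext n
      rw [seqEquiv_dm, LinearEquiv.apply_symm_apply, ← hx n, sub_self, map_zero]
      rfl
    have h2 : (seqEquiv (R := R) X).symm x = 0 := by
      rwa [← cancel_mono (dm s K), zero_comp]
    rw [← (seqEquiv (R := R) X).apply_symm_apply x, h2, map_zero]
  · intro w
    refine ⟨seqEquiv (R := R) X ((seqEquiv (R := R) X).symm w ≫ inv (dm s K)), fun n => ?_⟩
    have := seqEquiv_dm s X ((seqEquiv (R := R) X).symm w ≫ inv (dm s K)) n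
    rw [Category.assoc, IsIso.inv_hom_id, Category.comp_id, LinearEquiv.apply_symm_apply] at this
    rw [this]
    abel

lemma IsCompl.isIso_dm (h : IsCompl s K) : IsIso (dm s K) := by
  -- construct the inverse by solving the equation
  obtain ⟨x, hx⟩ := (h (∏ᶜ fun _ : ℕ => K)).exists_sol (seqEquiv (R := R) _ (𝟙 _))
  have h1 : (seqEquiv (R := R) _).symm x ≫ dm s K = 𝟙 _ := by
    apply (seqEquiv (R := R) _).injective
    ext n
    rw [seqEquiv_dm, LinearEquiv.apply_symm_apply, hx n]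
    abel
  refine ⟨(seqEquiv (R := R) _).symm x, ?_, h1⟩
  have h2 : (dm s K ≫ (seqEquiv (R := R) _).symm x - 𝟙 _) ≫ dm s K = 0 := by
    rw [Preadditive.sub_comp, Category.assoc, h1, Category.comp_id, Category.id_comp, sub_self]
  have h3 : seqEquiv (R := R) _ (dm s K ≫ (seqEquiv (R := R) _).symm x - 𝟙 _) = 0 := by
    apply (h _).eq_zero
    intro k
    have := congrArg (fun φ => seqEquiv (R := R) _ φ k) h2
    simp only [seqEquiv_dm, map_zero, Pi.zero_apply] at this
    rwa [sub_eq_zero] at this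
  have h4 := (seqEquiv (R := R) _).map_eq_zero_iff.1 h3
  rwa [sub_eq_zero] at h4

end Prod

section Inv

/-- `s` acts invertibly on `Y`. -/
abbrev Invt (s : R) (Y : T) : Prop := IsIso (s • 𝟙 Y)

variable {s : R} {Y : T}

lemma Invt.exists_smul (h : Invt s Y) {Z : T} (φ : Y ⟶ Z) : ∃ ψ : Y ⟶ Z, φ = s • ψ := by
  refine ⟨inv (s • 𝟙 Y) ≫ φ, ?_⟩
  have h1 : s • inv (s • 𝟙 Y) = 𝟙 Y := by
    have h2 := IsIso.inv_hom_id (s • 𝟙 Y)
    rwa [Linear.comp_smul, Category.comp_id] at h2
  rw [← Linear.smul_comp, h1, Category.id_comp]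

lemma Invt.eq_zero_of_smul (h : Invt s Y) {Z : T} (φ : Y ⟶ Z) (hφ : s • φ = 0) : φ = 0 := by
  have h1 : (s • 𝟙 Y) ≫ φ = 0 := by rw [Linear.smul_comp, Category.id_comp, hφ]
  rwa [← cancel_epi (s • 𝟙 Y), comp_zero]

lemma Invt.of_bijective (h : ∀ X : T, Function.Bijective (fun φ : X ⟶ Y => s • φ)) : Invt s Y := by
  obtain ⟨ψ, hψ⟩ := (h Y).2 (𝟙 Y)
  dsimp only at hψ
  refine ⟨ψ, ?_, ?_⟩
  · rw [Linear.smul_comp, Category.id_comp, hψ]
  · rw [Linear.comp_smul, Category.comp_id, hψ]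

lemma Invt.bijective (h : Invt s Y) (X : T) : Function.Bijective (fun φ : X ⟶ Y => s • φ) := by
  have e : ∀ φ : X ⟶ Y, s • φ = φ ≫ (s • 𝟙 Y) := fun φ => by rw [Linear.comp_smul, Category.comp_id]
  constructor
  · intro φ ψ hφ
    simp only [e] at hφ
    rwa [cancel_mono] at hφ
  · intro φ
    refine ⟨φ ≫ inv (s • 𝟙 Y), ?_⟩
    simp only [e, Category.assoc, IsIso.inv_hom_id, Category.comp_id]

lemma Invt.of_iso {Y' : T} (e : Y ≅ Y') (h : Invt s Y) : Invt s Y' := by
  have : s • 𝟙 Y' = e.inv ≫ (s • 𝟙 Y) ≫ e.hom := by simp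
  unfold Invt
  rw [this]
  infer_instance

/-- No nonzero morphism from an `s`-invertible object to an `s`-complete one. -/
lemma Invt.eq_zero (h : Invt s Y) {K : T} (hK : IsCompl s K) (φ : Y ⟶ K) : φ = 0 := by
  apply (hK Y).eq_zero_of_surjective
  intro ψ
  obtain ⟨ψ', h'⟩ := h.exists_smul ψ
  exact ⟨ψ', h'.symm⟩

lemma IsCompl.of_iso {K K' : T} (e : K ≅ K') (h : IsCompl s K) : IsCompl s K' := fun X =>
  (h X).of_linearEquiv { toFun := fun φ => φ ≫ e.hom, invFun := fun φ => φ ≫ e.inv, map_add' := by simp,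
                         map_smul' := by simp, left_inv := fun φ => by simp, right_inv := fun φ => by simp }

lemma IsCompl.pi {K : T} [HasProduct fun _ : ℕ => K] (h : IsCompl s K) : IsCompl s (∏ᶜ fun _ : ℕ => K) := by
  intro X
  refine Cmp.of_linearEquiv (seqEquiv (R := R) (K := K) X).symm ?_
  apply cmp_of
  · intro x hx
    funext k n
    exact congrFun ((h X).eq_zero (x := fun k => x k n) (fun k => congrFun (hx k) n)) k
  · intro w
    choose x hx using fun n => (h X).exists_sol (fun k => w k n)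
    exact ⟨fun k n => x n k, fun k => funext fun n => hx n k⟩

end Inv

end K780.Tele
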